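import Groth.Agent.L18.AmpleLocal
import Groth.Agent.L18.Contract.SecAmple

/-!
# Powers of an ample module with consecutive exponents generated at a point
-/

set_option autoImplicit false
set_option linter.style.haveILetI false
set_option backward.isDefEq.respectTransparency false

noncomputable section

universe u

open CategoryTheory AlgebraicGeometry TopologicalSpace Opposite
open Groth.L18
open Groth.L18.Frame (rs ro rs_rs rs_self IsFrame)
open Groth.L18.GenLoc Groth.L18.Ample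

namespace Groth.L16.Consec

variable {X : Scheme.{u}}

/-- `L ⊗ (L^d)^k ≅ L^(1+dk)`. -/
def twPowIso (L : X.Modules) (d : ℕ) : ∀ k : ℕ, tw L (CohB1.tensorPow L d) k ≅ CohB1.tensorPow L (1 + d * k)
  | 0 => (Groth.L00.Tensor.tensorPowOne L).symm
  | k + 1 => Groth.L00.Tensor.tensorIso (twPowIso L d k) (Iso.refl _) ≪≫
      Groth.L00.Tensor.tensorPowAdd L (1 + d * k) d ≪≫
        eqToIso (congrArg (CohB1.tensorPow L) (show 1 + d * k + d = 1 + d * (k + 1) by ring))

theorem exists_gen_consecutive {L : X.Modules} (hL : CohB1.IsAmple L) (x : X) :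
    ∃ (d : ℕ) (_ : 0 < d) (s : Coh.structureModule X ⟶ CohB1.tensorPow L d)
      (t : Coh.structureModule X ⟶ CohB1.tensorPow L (d + 1)),
      x ∈ CohB1.genLocus _ s ∧ x ∈ CohB1.genLocus _ t := by
  obtain ⟨W, e, hxW, he⟩ := Frame.exists_frame hL.1 x
  obtain ⟨n, s, hxs, hsW, -⟩ := exists_affine_genLocus_subset hL W hxW
  haveI := hL.2.1
  haveI := quasiSeparatedSpace_of_affine_genLocus hL.1 hL.2.2
  obtain ⟨k, t, ht⟩ := exists_extend (isInvertible_tensorPow hL.1 (n + 1)) hL.1 s (rs L hsW e)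
  have hxt : x ∈ CohB1.genLocus _ (Groth.L16.homOfSection _ t) := by
    refine le_genLocus (U := CohB1.genLocus _ s) _ ?_ hxs
    rw [secOf_homOfSection, ht, it_eq_fr]
    exact isFrame_fr (he.mono hsW) (isFrame_genLocus s) k
  have hpow := isInvertible_tensorPow hL.1 (n + 1)
  let t₁ : Coh.structureModule X ⟶ CohB1.tensorPow L ((n + 1) * k + 1) :=
    Groth.L16.homOfSection _ t ≫ (twPowIso L (n + 1) k ≪≫ eqToIso (congrArg (CohB1.tensorPow L) (add_comm _ _))).hom
  have hxt₁ : x ∈ CohB1.genLocus _ t₁ := by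
    rw [show CohB1.genLocus _ t₁ = CohB1.genLocus _ (Groth.L16.homOfSection _ t) from Groth.L16.genLocus_comp_iso _ _]
    exact hxt
  refine ⟨(n + 1) * (k + 1), by positivity, pw s (k + 1) ≫ (Groth.L00.Tensor.tensorPowMul L (n + 1) (k + 1)).hom,
    tensHom t₁ s ≫ (Groth.L00.Tensor.tensorPowAdd L ((n + 1) * k + 1) (n + 1) ≪≫
      eqToIso (congrArg (CohB1.tensorPow L) (by ring))).hom, ?_, ?_⟩
  · rw [Groth.L16.genLocus_comp_iso, genLocus_pw_succ hpow]
    exact hxs
  · rw [Groth.L16.genLocus_comp_iso, genLocus_tensHom (isInvertible_tensorPow hL.1 _) hpow]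
    exact ⟨hxt₁, hxs⟩

/-- A global section of a power of the restriction as a section over the open. -/
theorem exists_sec_of_hom {L : X.Modules} {Ω : X.Opens} {m : ℕ}
    (s : Coh.structureModule Ω.toScheme ⟶ CohB1.tensorPow (L.restrict Ω.ι) m) :
    ∃ σ : Γ(CohB1.tensorPow L m, Ω), Ω.ι ⁻¹ᵁ Contract.secLocus σ = CohB1.genLocus _ s := by
  let s₁ := s ≫ (Groth.L00.Tensor.tensorPowRestrict Ω.ι L m).hom
  let σ : Γ(CohB1.tensorPow L m, Ω) := rs (CohB1.tensorPow L m) Ω.ι_image_top.ge (secOf s₁)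
  have e0 : rs (CohB1.tensorPow L m) Ω.ι_image_top.le σ = secOf s₁ := (rs_rs _ _ _ _).trans (rs_self _ _ _)
  refine ⟨σ, ?_⟩
  rw [← Contract.genLocus_homOfSection_restrict, ← (Groth.L16.genLocus_comp_iso s _ : CohB1.genLocus _ s₁ = _)]
  refine congrArg (CohB1.genLocus _) ?_
  exact (congrArg (Groth.L16.homOfSection ((CohB1.tensorPow L m).restrict Ω.ι)) e0).trans (homOfSection_secOf s₁)

end Groth.L16.Consec
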