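import Groth.Agent.L18.LPsi.ImmersionCrit
import Groth.Agent.L18.Contract.SecAmple
import Groth.Agent.L18.AmpleLocal
import Mathlib.RingTheory.GradedAlgebra.RingHom
import Mathlib.AlgebraicGeometry.Morphisms.QuasiSeparated

/-!
# The ring of sections of the powers of a line bundle inside its symmetric algebra
-/

set_option autoImplicit false
set_option linter.style.haveILetI false

noncomputable section

universe u

open CategoryTheory CategoryTheory.Limits AlgebraicGeometry TopologicalSpace Opposite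
open Groth.L18
open Groth.L18.Frame (rs ro rs_rs rs_self rs_smul ro_ro ro_self IsFrame)
open Groth.L18.LPsi (fOn fOn_res nv)
open Groth.L18.NormDesc (pf pf_rs pf_smul isFrame_pf)
open Groth.L18.Contract (secLocus secLocus_le secLocus_inf_eq mem_secLocus)

namespace Groth.L16.LPsiAmple

variable {Y X P PL : Scheme.{u}} {q : X ⟶ Y} {L : X.Modules} {𝒮 : RelProj.QCGrAlg Y} {𝒮L : RelProj.QCGrAlg X}
  {j : L ⟶ 𝒮L.toModule} (u : RelProj.QGrHom q 𝒮 𝒮L) {hY : IsAffineOpen (⊤ : Y.Opens)}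
  [Coh.IsQCoh L] (hL : PicF.IsInvertible L) (hj : RelProj.IsGrSymAlg L 𝒮L j)
  {pL : PL ⟶ X} {chartL : ∀ (U : X.Opens) (hU : IsAffineOpen U), (((pL ⁻¹ᵁ U : PL.Opens) : Scheme.{u}) ≅ Proj (𝒮L.deg U hU))}
  (hPL : RelProj.IsRelProj 𝒮L pL chartL)

/-- Restriction in the algebra. -/
abbrev res (𝒯 : RelProj.QCGrAlg X) {U V : X.Opens} (h : V ≤ U) :
    𝒯.presheaf.obj (op U) →+* 𝒯.presheaf.obj (op V) := (𝒯.presheaf.map (homOfLE h).op).hom

omit [Coh.IsQCoh L] in
theorem res_res {U V W : X.Opens} (h : V ≤ U) (h' : W ≤ V) (z : 𝒮L.presheaf.obj (op U)) :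
    res 𝒮L h' (res 𝒮L h z) = res 𝒮L (h'.trans h) z :=
  (ConcreteCategory.congr_hom (𝒮L.presheaf.map_comp (homOfLE h).op (homOfLE h').op) z).symm

/-- `c e ^ n`. -/
def mon (j : L ⟶ 𝒮L.toModule) {W : X.Opens} (n : ℕ) (c : Γ(X, W)) (e : Γ(L, W)) : 𝒮L.presheaf.obj (op W) :=
  (𝒮L.str.app (op W)).hom c * SymInv.gen j e ^ n

omit [Coh.IsQCoh L] in
theorem mon_res {V W : X.Opens} (h : V ≤ W) (n : ℕ) (c : Γ(X, W)) (e : Γ(L, W)) :
    res 𝒮L h (mon j n c e) = mon j n (ro h c) (rs L h e) := by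
  refine (map_mul _ _ _).trans ?_
  rw [map_pow]
  exact congrArg₂ (· * ·) (ConcreteCategory.congr_hom (𝒮L.str.naturality (homOfLE h).op) c).symm
    (congrArg (· ^ n) (LPsi.res_gen h e))

omit [Coh.IsQCoh L] in
theorem mon_mul {W : X.Opens} (m n : ℕ) (a b : Γ(X, W)) (e : Γ(L, W)) :
    mon j m a e * mon j n b e = mon j (m + n) (a * b) e := by
  simp only [mon, map_mul, pow_add]; ring

omit [Coh.IsQCoh L] in
theorem mon_pow {W : X.Opens} (n k : ℕ) (a : Γ(X, W)) (e : Γ(L, W)) :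
    mon j n a e ^ k = mon j (n * k) (a ^ k) e := by
  simp only [mon, mul_pow, map_pow, pow_mul]

omit [Coh.IsQCoh L] in
theorem mon_zero {W : X.Opens} (n : ℕ) (e : Γ(L, W)) : mon j n (0 : Γ(X, W)) e = 0 := by
  simp only [mon, map_zero, zero_mul]

include hj in
theorem mon_inj {W : X.Opens} (hW : IsAffineOpen W) {e : Γ(L, W)} (he : IsFrame L W e) {n : ℕ} {a b : Γ(X, W)}
    (h : mon j n a e = mon j n b e) : a = b := by
  rw [← sub_eq_zero]
  refine SymInv.coeff_eq_zero hj hW he n ?_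
  rw [map_sub, sub_mul]
  exact sub_eq_zero.mpr h

include hj in
theorem mon_mem {W : X.Opens} (hW : IsAffineOpen W) {e : Γ(L, W)} (he : IsFrame L W e) (n : ℕ) (c : Γ(X, W)) :
    mon j n c e ∈ 𝒮L.deg W hW n := (SymInv.mem_deg_iff hj hW he n _).mpr ⟨c, rfl⟩

omit [Coh.IsQCoh L] in
theorem mon_congr {W : X.Opens} {n : ℕ} {c c' : Γ(X, W)} {e e' : Γ(L, W)}
    (he : IsFrame L W e) (h : c • pf e n = c' • pf e' n) : mon j n c e = mon j n c' e' := by
  obtain ⟨a, ha⟩ := he.exists_coeff le_rfl e'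
  rw [rs_self] at ha
  subst ha
  rw [pf_smul, ← mul_smul] at h
  have hc : c = c' * a ^ n := (isFrame_pf he n).inj le_rfl (a := c) (b := c' * a ^ n) (by rw [rs_self]; exact h)
  have h2 : SymInv.gen j (a • e) = (𝒮L.str.app (op W)).hom a * SymInv.gen j e := Scheme.Modules.Hom.app_smul j a e
  rw [mon, mon, h2, mul_pow, hc, map_mul, map_pow, mul_assoc]

omit [Coh.IsQCoh L] in
/-- Elements agreeing on a cover are equal. -/
theorem ext_cover {N : X.Opens} {ι : Type*} (W : ι → X.Opens) (hle : ∀ i, W i ≤ N) (hcov : N ≤ ⨆ i, W i)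
    {a b : 𝒮L.presheaf.obj (op N)} (h : ∀ i, res 𝒮L (hle i) a = res 𝒮L (hle i) b) : a = b :=
  TopCat.Sheaf.eq_of_locally_eq' ⟨𝒮L.presheaf, 𝒮L.isSheaf⟩ W N (fun i => homOfLE (hle i)) hcov a b h

omit [Coh.IsQCoh L] in
theorem res_app (s : 𝒮.presheaf.obj (op ⊤)) {W : X.Opens} (h : W ≤ q ⁻¹ᵁ (⊤ : Y.Opens)) :
    res 𝒮L h ((u.app ⊤).hom s) = fOn u W s := rfl

omit [Coh.IsQCoh L] in
/-- An element which is locally of degree `d` comes from degree `d`. -/
theorem exists_deg_of_bij (hu : Function.Bijective (u.app ⊤).hom) {d : ℕ} {ι : Type*} (W : ι → X.Opens)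
    (hW : ∀ i, IsAffineOpen (W i)) (hcov : ∀ x, ∃ i, x ∈ W i) (y : 𝒮L.presheaf.obj (op (q ⁻¹ᵁ (⊤ : Y.Opens))))
    (hy : ∀ i, res 𝒮L (le_top.trans (Scheme.Hom.preimage_top q).ge) y ∈ 𝒮L.deg (W i) (hW i) d) :
    ∃ s ∈ 𝒮.deg ⊤ hY d, (u.app ⊤).hom s = y := by
  classical
  obtain ⟨s₀, rfl⟩ := hu.2 y
  refine ⟨DirectSum.decompose (𝒮.deg ⊤ hY) s₀ d, SetLike.coe_mem _, ?_⟩
  refine ext_cover W (fun i => le_top.trans (Scheme.Hom.preimage_top q).ge)
    (fun x _ => Opens.mem_iSup.mpr (hcov x)) fun i => ?_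
  have hle : W i ≤ q ⁻¹ᵁ (⊤ : Y.Opens) := le_top.trans (Scheme.Hom.preimage_top q).ge
  rw [res_app u _ hle, res_app u _ hle]
  refine ((u.gradedAt ⊤ hY (W i) (hW i) hle).map_directSumDecompose).trans ?_
  exact DirectSum.decompose_of_mem_same _ (hy i)

include hL hj hPL in
theorem mem_nv_iff {d : ℕ} {s : 𝒮.presheaf.obj (op ⊤)} (hs : s ∈ 𝒮.deg ⊤ hY d) {W : X.Opens}
    (hW : IsAffineOpen W) {e : Γ(L, W)} (he : IsFrame L W e) {c : Γ(X, W)} (hc : fOn u W s = mon j d c e) :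
    nv u d s ⊓ W = X.basicOpen c := by
  haveI := SymInv.isIso_relProj hj hL hPL
  have key : ∀ x ∈ W, x ∈ nv u d s ↔ x ∈ X.basicOpen c := by
    intro x hxW
    obtain ⟨ξ, rfl⟩ : ∃ ξ, pL.base ξ = x := ⟨(inv pL).base x, by rw [← Scheme.Hom.comp_apply, IsIso.inv_hom_id]; rfl⟩
    obtain ⟨v, rfl⟩ := QMap.exists_point (chart := chartL) W hW ξ hxW
    exact (LPsi.emb_mem_nv_iff u hL hj hPL hs hW v).trans (LPsi.not_mem_iff_coeff hPL hj hW he hc v)
  ext x
  exact ⟨fun ⟨h1, h2⟩ => (key x h2).mp h1,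
    fun h => ⟨(key x (X.basicOpen_le c h)).mpr h, X.basicOpen_le c h⟩⟩

include hj in
theorem exists_coeff_fOn {d : ℕ} {s : 𝒮.presheaf.obj (op ⊤)} (hs : s ∈ 𝒮.deg ⊤ hY d) {W : X.Opens}
    (hW : IsAffineOpen W) {e : Γ(L, W)} (he : IsFrame L W e) : ∃ c : Γ(X, W), fOn u W s = mon j d c e :=
  LPsi.exists_coeff hj hW he (LPsi.tOf_mem u hs ⟨W, hW⟩)

include hL hj hPL in
/-- A section of a power gives an element with the same non-vanishing locus. -/
theorem exists_elem_of_sec (hu : Function.Bijective (u.app ⊤).hom) {n : ℕ}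
    (σ : Γ(CohB1.tensorPow L n, (⊤ : X.Opens))) :
    ∃ s ∈ 𝒮.deg ⊤ hY n, nv u n s = secLocus σ := by
  choose W hW e hxW _ he using fun x : X => SymInv.exists_affine_frame (L := L) hL x ⊤ trivial
  have hc : ∀ x, ∃ c : Γ(X, W x), c • pf (e x) n = rs (CohB1.tensorPow L n) le_top σ := fun x => by
    obtain ⟨c, hc⟩ := (isFrame_pf (he x) n).exists_coeff le_rfl (rs (CohB1.tensorPow L n) le_top σ)
    exact ⟨c, by rwa [rs_self] at hc⟩
  choose c hc using hc
  have hle : ∀ x, W x ≤ q ⁻¹ᵁ (⊤ : Y.Opens) := fun x => le_top.trans (Scheme.Hom.preimage_top q).ge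
  obtain ⟨y, hy, -⟩ := TopCat.Sheaf.existsUnique_gluing' ⟨𝒮L.presheaf, 𝒮L.isSheaf⟩ W (q ⁻¹ᵁ (⊤ : Y.Opens))
    (fun x => homOfLE (hle x)) (fun x _ => Opens.mem_iSup.mpr ⟨x, hxW x⟩) (fun x => mon j n (c x) (e x)) fun x x' => by
      show res 𝒮L inf_le_left (mon j n (c x) (e x)) = res 𝒮L inf_le_right (mon j n (c x') (e x'))
      rw [mon_res, mon_res]
      refine mon_congr ((he x).mono _) ?_
      have h1 := congrArg (rs (CohB1.tensorPow L n) (inf_le_left : W x ⊓ W x' ≤ W x)) (hc x)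
      have h2 := congrArg (rs (CohB1.tensorPow L n) (inf_le_right : W x ⊓ W x' ≤ W x')) (hc x')
      rw [rs_smul, pf_rs, rs_rs] at h1 h2
      exact h1.trans h2.symm
  obtain ⟨s, hs, hsy⟩ := exists_deg_of_bij (hY := hY) u hu W hW (fun x => ⟨x, hxW x⟩) y fun x => by
    rw [show res 𝒮L _ y = mon j n (c x) (e x) from hy x]
    exact mon_mem hj (hW x) (he x) n _
  have hsW : ∀ x, fOn u (W x) s = mon j n (c x) (e x) := fun x => by
    rw [← res_app u s (hle x), hsy]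
    exact hy x
  refine ⟨s, hs, ?_⟩
  have key : ∀ x, nv u n s ⊓ W x = secLocus σ ⊓ W x := fun x => by
    rw [mem_nv_iff u hL hj hPL hs (hW x) (he x) (hsW x), secLocus_inf_eq σ (isFrame_pf (he x) n) le_top (hc x)]
  ext x
  have := SetLike.ext_iff.1 (key x) x
  simp only [Opens.mem_inf, hxW x, and_true] at this
  exact this

omit [Coh.IsQCoh L] in
include hL in
theorem exists_finite_frames [CompactSpace X] :
    ∃ (ι : Type u) (_ : Finite ι) (W : ι → X.Opens) (e : ∀ i, Γ(L, W i)),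
      (∀ i, IsAffineOpen (W i)) ∧ (∀ i, IsFrame L (W i) (e i)) ∧ ∀ x, ∃ i, x ∈ W i := by
  choose W hW e hxW _ he using fun x : X => SymInv.exists_affine_frame (L := L) hL x ⊤ trivial
  obtain ⟨t, ht⟩ := isCompact_univ.elim_finite_subcover (fun x => (W x : Set X)) (fun x => (W x).2)
    fun x _ => Set.mem_iUnion.mpr ⟨x, hxW x⟩
  refine ⟨t, inferInstance, fun i => W i.1, fun i => e i.1, fun i => hW i.1, fun i => he i.1, fun x => ?_⟩
  obtain ⟨y, hy, hxy⟩ := Set.mem_iUnion₂.mp (ht (Set.mem_univ x))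
  exact ⟨⟨y, hy⟩, hxy⟩

omit [Coh.IsQCoh L] in
theorem ro_mul' {U V : X.Opens} (h : V ≤ U) (a b : Γ(X, U)) : ro h (a * b) = ro h a * ro h b :=
  map_mul (X.presheaf.map (homOfLE h).op).hom a b

include hL hj hPL in
/-- An element vanishing on `X_s` is killed by a power of `s`. -/
theorem condInj [CompactSpace X] (hu : Function.Injective (u.app ⊤).hom) {d : ℕ} {s : 𝒮.presheaf.obj (op ⊤)}
    (hs : s ∈ 𝒮.deg ⊤ hY d) : LPsi.CondInj u hY d s (nv u d s) := by
  intro m _ s' hs' h0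
  obtain ⟨ι, hι, W, e, hW, he, hcov⟩ := exists_finite_frames (X := X) hL
  choose c hc using fun i => exists_coeff_fOn u hj hs (hW i) (he i)
  choose a ha using fun i => exists_coeff_fOn u hj hs' (hW i) (he i)
  have hk : ∀ i, ∃ k, c i ^ k * a i = 0 := fun i => by
    refine exists_pow_mul_eq_zero_of_res_basicOpen_eq_zero_of_isAffineOpen X (hW i) (a i) (c i) ?_
    have hle : X.basicOpen (c i) ≤ nv u d s := ((mem_nv_iff u hL hj hPL hs (hW i) (he i) (hc i)).ge).trans inf_le_left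
    refine mon_inj (n := m * d) hj ((hW i).basicOpen (c i)) ((he i).mono (X.basicOpen_le (c i))) ?_
    rw [mon_zero]
    have e1 := fOn_res u hle s'
    rw [h0, map_zero, ← fOn_res u (X.basicOpen_le (c i)) s', ha i] at e1
    exact ((mon_res _ _ _ _).symm.trans e1.symm)
  choose k hk using hk
  haveI := Fintype.ofFinite ι
  refine ⟨Finset.univ.sup k + 1, Nat.succ_pos _, hu ?_⟩
  rw [map_zero]
  refine ext_cover W (fun i => le_top.trans (Scheme.Hom.preimage_top q).ge)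
    (fun x _ => Opens.mem_iSup.mpr (hcov x)) fun i => ?_
  rw [res_app u _ _, map_zero, map_mul, map_pow, hc i, ha i, mon_pow, mon_mul,
    show c i ^ (Finset.univ.sup k + 1) * a i = 0 from ?_, mon_zero]
  obtain ⟨r, hr⟩ := Nat.exists_eq_add_of_le ((Finset.le_sup (f := k) (Finset.mem_univ i)).trans (Nat.le_succ _))
  rw [show Finset.univ.sup k + 1 = r + k i by omega, pow_add, mul_assoc, hk i, mul_zero]

include hL hj hPL in
/-- Functions on `X_s` are fractions of sections of powers. -/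
theorem condSurj [CompactSpace X] [X.IsSeparated] (hu : Function.Bijective (u.app ⊤).hom) {d : ℕ}
    {s : 𝒮.presheaf.obj (op ⊤)} (hs : s ∈ 𝒮.deg ⊤ hY d) : LPsi.CondSurj u hY d s (nv u d s) := by
  intro t
  obtain ⟨ι, hι, W, e, hW, he, hcov⟩ := exists_finite_frames (X := X) hL
  haveI := Fintype.ofFinite ι
  choose c hc using fun i => exists_coeff_fOn u hj hs (hW i) (he i)
  have hD : ∀ i, X.basicOpen (c i) ≤ (nv u d s) := fun i =>
    ((mem_nv_iff u hL hj hPL hs (hW i) (he i) (hc i)).ge).trans inf_le_left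
  have hex : ∀ i, ∃ (k : ℕ) (a : Γ(X, W i)),
      ro (X.basicOpen_le (c i)) a = ro (X.basicOpen_le (c i)) (c i) ^ k * ro (hD i) t := fun i =>
    exists_eq_pow_mul_of_isAffineOpen X (W i) (hW i) (c i) (ro (hD i) t)
  choose k a ha using hex
  let K := Finset.univ.sup k + 1
  let b : ∀ i, Γ(X, W i) := fun i => c i ^ (K - k i) * a i
  let z : ∀ i, 𝒮L.presheaf.obj (op (W i)) := fun i => mon j (d * K) (b i) (e i)
  have hzN : ∀ i, res 𝒮L (X.basicOpen_le (c i)) (z i) =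
      res 𝒮L (hD i) ((𝒮L.str.app (op (nv u d s))).hom t * fOn u (nv u d s) s ^ K) := by
    intro i
    have h1 : res 𝒮L (hD i) ((𝒮L.str.app (op (nv u d s))).hom t) =
        (𝒮L.str.app (op (X.basicOpen (c i)))).hom (ro (hD i) t) :=
      (ConcreteCategory.congr_hom (𝒮L.str.naturality (homOfLE (hD i)).op) t).symm
    rw [map_mul, map_pow, h1, fOn_res u (hD i) s, ← fOn_res u (X.basicOpen_le (c i)) s, hc i]
    show res 𝒮L _ (mon j (d * K) (b i) (e i)) = _ * res 𝒮L _ (mon j d (c i) (e i)) ^ K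
    rw [mon_res, mon_res, mon_pow]
    have hb : ro (X.basicOpen_le (c i)) (b i) = ro (hD i) t * ro (X.basicOpen_le (c i)) (c i) ^ K := by
      rw [show b i = c i ^ (K - k i) * a i from rfl, ro_mul', ha i]
      rw [show ro (X.basicOpen_le (c i)) (c i ^ (K - k i)) = ro (X.basicOpen_le (c i)) (c i) ^ (K - k i) from map_pow _ _ _,
        ← mul_assoc, ← pow_add, Nat.sub_add_cancel
          ((Finset.le_sup (f := k) (Finset.mem_univ i)).trans (Nat.le_succ _)), mul_comm]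
    rw [mon, mon, hb, map_mul, mul_assoc]
  have haff : ∀ i i', IsAffineOpen (W i ⊓ W i') := fun i i' => (hW i).inf (hW i')
  have hM : ∀ p : ι × ι, ∃ M : ℕ, res 𝒮L (inf_le_left : W p.1 ⊓ W p.2 ≤ W p.1) (z p.1 * fOn u (W p.1) s ^ M) =
      res 𝒮L (inf_le_right : W p.1 ⊓ W p.2 ≤ W p.2) (z p.2 * fOn u (W p.2) s ^ M) := by
    rintro ⟨i, i'⟩
    dsimp only
    set V := W i ⊓ W i'
    have hV := haff i i'
    have heV : IsFrame L V (rs L inf_le_left (e i)) := (he i).mono inf_le_left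
    obtain ⟨c₀, hc₀⟩ := exists_coeff_fOn u hj hs hV heV
    have hz : ∀ m (h : V ≤ W m), ∃ β : Γ(X, V), res 𝒮L h (z m) = mon j (d * K) β (rs L inf_le_left (e i)) := fun m h =>
      (SymInv.mem_deg_iff hj hV heV (d * K) _).mp ((SymInv.mem_deg_iff hj hV ((he m).mono h) (d * K) _).mpr
        ⟨_, mon_res h _ _ _⟩)
    obtain ⟨β, hβ⟩ := hz i inf_le_left
    obtain ⟨β', hβ'⟩ := hz i' inf_le_right
    have hVN : X.basicOpen c₀ ≤ (nv u d s) := ((mem_nv_iff u hL hj hPL hs hV heV hc₀).ge).trans inf_le_left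
    have hres : ∀ m (h : V ≤ W m), res 𝒮L ((X.basicOpen_le c₀).trans h) (z m) =
        res 𝒮L hVN ((𝒮L.str.app (op (nv u d s))).hom t * fOn u (nv u d s) s ^ K) := fun m h => by
      have hle : X.basicOpen c₀ ≤ X.basicOpen (c m) :=
        (le_inf hVN ((X.basicOpen_le c₀).trans h)).trans_eq (mem_nv_iff u hL hj hPL hs (hW m) (he m) (hc m))
      rw [← res_res (X.basicOpen_le (c m)) hle, hzN m, res_res]
    have h0 : ro (X.basicOpen_le c₀) (β - β') = 0 := by
      refine mon_inj (n := d * K) hj (hV.basicOpen c₀) (heV.mono (X.basicOpen_le c₀)) ?_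
      have e1 := hres i inf_le_left
      have e2 := hres i' inf_le_right
      rw [← res_res (inf_le_left : V ≤ W i) (X.basicOpen_le c₀), hβ, mon_res] at e1
      rw [← res_res (inf_le_right : V ≤ W i') (X.basicOpen_le c₀), hβ', mon_res] at e2
      rw [mon_zero, show ro (X.basicOpen_le c₀) (β - β') = ro (X.basicOpen_le c₀) β - ro (X.basicOpen_le c₀) β' from
        map_sub _ _ _]
      show (𝒮L.str.app (op (X.basicOpen c₀))).hom _ * _ = 0
      rw [map_sub, sub_mul]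
      exact sub_eq_zero.mpr (e1.trans e2.symm)
    obtain ⟨M, hM⟩ := exists_pow_mul_eq_zero_of_res_basicOpen_eq_zero_of_isAffineOpen X hV (β - β') c₀ h0
    refine ⟨M, ?_⟩
    rw [map_mul, map_mul, map_pow, map_pow, fOn_res, fOn_res, hβ, hβ', hc₀, mon_pow, mon_mul, mon_mul]
    rw [mul_sub, sub_eq_zero, mul_comm, mul_comm _ β'] at hM
    rw [hM]
  choose M hM using hM
  let M₀ := Finset.univ.sup M
  have hglue : ∀ i i', res 𝒮L (inf_le_left : W i ⊓ W i' ≤ W i) (z i * fOn u (W i) s ^ M₀) =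
      res 𝒮L (inf_le_right : W i ⊓ W i' ≤ W i') (z i' * fOn u (W i') s ^ M₀) := fun i i' => by
    obtain ⟨r, hr⟩ := Nat.exists_eq_add_of_le (Finset.le_sup (f := M) (Finset.mem_univ (i, i')))
    rw [show M₀ = M (i, i') + r from hr, pow_add, pow_add, ← mul_assoc, ← mul_assoc]
    refine (map_mul _ _ _).trans ((congrArg₂ (· * ·) (hM (i, i')) ?_).trans (map_mul _ _ _).symm)
    rw [map_pow, map_pow, fOn_res, fOn_res]
  have hle : ∀ i, W i ≤ q ⁻¹ᵁ (⊤ : Y.Opens) := fun i => le_top.trans (Scheme.Hom.preimage_top q).ge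
  obtain ⟨y, hy, -⟩ := TopCat.Sheaf.existsUnique_gluing' ⟨𝒮L.presheaf, 𝒮L.isSheaf⟩ W (q ⁻¹ᵁ (⊤ : Y.Opens))
    (fun i => homOfLE (hle i)) (fun x _ => Opens.mem_iSup.mpr (hcov x)) (fun i => z i * fOn u (W i) s ^ M₀) hglue
  obtain ⟨s', hs', hsy⟩ := exists_deg_of_bij (hY := hY) (d := (K + M₀) * d) u hu W hW hcov y fun i => by
    rw [show res 𝒮L _ y = z i * fOn u (W i) s ^ M₀ from hy i, hc i, mon_pow]
    show mon j _ _ _ * _ ∈ _
    rw [mon_mul, show d * K + d * M₀ = (K + M₀) * d by ring]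
    exact mon_mem hj (hW i) (he i) _ _
  refine ⟨K + M₀, by omega, s', hs', ?_⟩
  refine ext_cover (fun i => X.basicOpen (c i)) hD (fun x hx => ?_) fun i => ?_
  · obtain ⟨i, hi⟩ := hcov x
    exact Opens.mem_iSup.mpr ⟨i, (mem_nv_iff u hL hj hPL hs (hW i) (he i) (hc i)).le ⟨hx, hi⟩⟩
  · rw [pow_add, ← mul_assoc, map_mul, ← hzN i, map_pow, fOn_res, fOn_res,
      ← fOn_res u (X.basicOpen_le (c i)) s, ← fOn_res u (X.basicOpen_le (c i)) s',
      ← res_app u s' (hle i), hsy, show res 𝒮L _ y = z i * fOn u (W i) s ^ M₀ from hy i, map_mul, map_pow]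

include hL hj hPL in
/-- Ample modules: affine non-vanishing loci cover. -/
theorem exists_affine_cover (hA : CohB1.IsAmple L) (hu : Function.Bijective (u.app ⊤).hom) (x : X) :
    ∃ (d : ℕ) (_ : 0 < d) (s : 𝒮.presheaf.obj (op ⊤)) (_ : s ∈ 𝒮.deg ⊤ hY d),
      x ∈ nv u d s ∧ IsAffineOpen (nv u d s) := by
  obtain ⟨n, s₀, hxs, haff⟩ := hA.2.2 x
  obtain ⟨s, hs, hnv⟩ := exists_elem_of_sec u hL hj hPL (hY := hY) hu (n := n + 1) (GenLoc.secOf s₀)
  have e : secLocus (GenLoc.secOf s₀) = CohB1.genLocus _ s₀ := by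
    refine le_antisymm (fun y hy => ?_) fun y hy => ?_
    · obtain ⟨O, hO, hyO, hf⟩ := (mem_secLocus _).1 hy
      exact GenLoc.le_genLocus s₀ hf hyO
    · exact (mem_secLocus _).2 ⟨_, le_top, hy, GenLoc.isFrame_genLocus s₀⟩
  exact ⟨n + 1, n.succ_pos, s, hs, by rw [hnv, e]; exact hxs, by rw [hnv, e]; exact haff⟩

end Groth.L16.LPsiAmple
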