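import Groth.Agent.L18.SymSheaf
import Groth.Agent.L18.SymGraded
import Groth.Prelude.Def_RelProj4

/-!
# The graded morphism out of a symmetric algebra given by a module map
-/

set_option autoImplicit false
set_option linter.style.haveILetI false

noncomputable section

universe u

open CategoryTheory CategoryTheory.Limits AlgebraicGeometry TopologicalSpace Opposite
open Groth.L18 Groth.L18.SymSheaf

namespace Groth.L16.SymQHom

variable {X Y : Scheme.{u}} (q : X ⟶ Y) {L : X.Modules} (𝒮L : RelProj.QCGrAlg X) (jL : L ⟶ 𝒮L.toModule)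
  (hjL : RelProj.IsGrSymAlg L 𝒮L jL) {E : Y.Modules} [Coh.IsQCoh E] (w : E ⟶ (Scheme.Modules.pushforward q).obj L)

include hjL in
theorem exists_qgrHom :
    ∃ u : RelProj.QGrHom q (symGr E) 𝒮L, ∀ (U : Y.Opens) (x : Γ(E, U)),
      (u.app U).hom ((SymSheaf.j E).app U x) = jL.app (q ⁻¹ᵁ U) (w.app U x) := by
  let K := Opens.grothendieckTopology Y
  let G := Scheme.AffineZariskiSite.toOpensFunctor Y
  let B : TopCat.Sheaf CommRingCat.{u} Y.carrier :=
    (TopCat.Sheaf.pushforward CommRingCat.{u} q.base).obj ⟨𝒮L.presheaf, 𝒮L.isSheaf⟩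
  let str : ∀ U : Y.Opens, Γ(Y, U) →+* 𝒮L.presheaf.obj (op (q ⁻¹ᵁ U)) := fun U =>
    ((𝒮L.str.app (op (q ⁻¹ᵁ U))).hom).comp (q.app U).hom
  let alg : ∀ U : Y.Opens, Algebra Γ(Y, U) (𝒮L.presheaf.obj (op (q ⁻¹ᵁ U))) := fun U => (str U).toAlgebra
  have hsmul : ∀ (U : Y.Opens) (r : Γ(Y, U)) (m : Γ(E, U)),
      (show 𝒮L.presheaf.obj (op (q ⁻¹ᵁ U)) from jL.app (q ⁻¹ᵁ U) (w.app U (r • m))) =
        str U r * (show 𝒮L.presheaf.obj (op (q ⁻¹ᵁ U)) from jL.app (q ⁻¹ᵁ U) (w.app U m)) := fun U r m => by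
    refine Eq.trans ?_ ((Scheme.Modules.Hom.app_smul jL ((q.app U).hom r)
      (show Γ(L, q ⁻¹ᵁ U) from w.app U m)).trans (smul_toModule 𝒮L.toQCAlg (q ⁻¹ᵁ U) _ _))
    exact congrArg (jL.app (q ⁻¹ᵁ U)) (Scheme.Modules.Hom.app_smul w r m)
  let M : ∀ U : Y.Opens, Sym E U →+* 𝒮L.presheaf.obj (op (q ⁻¹ᵁ U)) := fun U =>
    letI := alg U
    (SymmetricAlgebra.lift (R := Γ(Y, U)) (A := 𝒮L.presheaf.obj (op (q ⁻¹ᵁ U)))
      { toFun := fun m => (show 𝒮L.presheaf.obj (op (q ⁻¹ᵁ U)) from jL.app (q ⁻¹ᵁ U) (w.app U m))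
        map_add' := fun x y => (congrArg (jL.app (q ⁻¹ᵁ U)) (map_add (w.app U).hom x y)).trans (map_add _ _ _)
        map_smul' := fun r m => hsmul U r m }).toRingHom
  have Mι : ∀ (U : Y.Opens) (m : Γ(E, U)),
      M U (SymmetricAlgebra.ι _ Γ(E, U) m) = jL.app (q ⁻¹ᵁ U) (w.app U m) := fun U m => by
    letI := alg U
    exact SymmetricAlgebra.lift_ι_apply _ m
  have Ma : ∀ (U : Y.Opens) (r : Γ(Y, U)), M U (algebraMap _ (Sym E U) r) = str U r := fun U r => by
    letI := alg U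
    exact AlgHom.commutes _ r
  have strres : ∀ (U V : Y.Opens) (h : V ≤ U) (r : Γ(Y, U)),
      str V ((Y.presheaf.map (homOfLE h).op).hom r) =
        (𝒮L.presheaf.map (homOfLE (q.preimage_mono h)).op).hom (str U r) := fun U V h r => by
    refine Eq.trans ?_ (ConcreteCategory.congr_hom (𝒮L.str.naturality (homOfLE (q.preimage_mono h)).op) _)
    exact congrArg (𝒮L.str.app (op (q ⁻¹ᵁ V))).hom (ConcreteCategory.congr_hom (q.naturality (homOfLE h).op) r)
  have jres : ∀ (U V : Y.Opens) (h : V ≤ U) (m : Γ(E, U)),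
      (show 𝒮L.presheaf.obj (op (q ⁻¹ᵁ V)) from jL.app (q ⁻¹ᵁ V) (w.app V ((E.presheaf.map (homOfLE h).op) m))) =
        (𝒮L.presheaf.map (homOfLE (q.preimage_mono h)).op).hom (jL.app (q ⁻¹ᵁ U) (w.app U m)) := fun U V h m => by
    refine Eq.trans ?_ (ConcreteCategory.congr_hom (jL.mapPresheaf.naturality (homOfLE (q.preimage_mono h)).op) _)
    exact congrArg (jL.app (q ⁻¹ᵁ V)) (ConcreteCategory.congr_hom (w.mapPresheaf.naturality (homOfLE h).op) m)
  have hnat : ∀ (U V : Y.Opens) (hU : IsAffineOpen U) (hV : IsAffineOpen V) (h : V ≤ U),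
      (symGr E).presheaf.map (homOfLE h).op ≫ CommRingCat.ofHom ((M V).comp (secEquiv E V hV).toRingHom) =
        CommRingCat.ofHom ((M U).comp (secEquiv E U hU).toRingHom) ≫ B.obj.map (homOfLE h).op := by
    intro U V hU hV h
    refine CommRingCat.hom_ext (RingHom.ext fun a => ?_)
    show M V (secEquiv E V hV _) = (𝒮L.presheaf.map (homOfLE (q.preimage_mono h)).op).hom (M U (secEquiv E U hU a))
    refine (congrArg (M V) (secEquiv_res E hU hV h a)).trans ?_
    generalize secEquiv E U hU a = b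
    refine RingHom.congr_fun (SymRing.ringHom_ext (f := (M V).comp (resMap E h))
      (f' := (𝒮L.presheaf.map (homOfLE (q.preimage_mono h)).op).hom.comp (M U)) (fun r => ?_) (fun m => ?_)) b
    · rw [RingHom.comp_apply, RingHom.comp_apply, resMap_algebraMap, Ma, Ma]
      exact strres U V h r
    · rw [RingHom.comp_apply, RingHom.comp_apply, resMap_ι, Mι, Mι]
      exact jres U V h m
  let α : G.op ⋙ (symGr E).presheaf ⟶ G.op ⋙ B.obj :=
    { app := fun U => CommRingCat.ofHom ((M U.unop.1).comp (secEquiv E U.unop.1 U.unop.2).toRingHom)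
      naturality := fun U V i => hnat _ _ U.unop.2 V.unop.2 (Scheme.AffineZariskiSite.toOpens_mono i.unop.le) }
  let ψ₀ := Functor.IsCoverDense.restrictHomEquivHom (G := G) (K := K) (ℱ := (symGr E).presheaf) (ℱ' := B) α
  have hres : G.op.whiskerLeft ψ₀ = α :=
    (Functor.IsCoverDense.restrictHomEquivHom (G := G) (K := K) (ℱ := (symGr E).presheaf) (ℱ' := B)).symm_apply_apply α
  have happ : ∀ (U : Y.Opens) (hU : IsAffineOpen U),
      ψ₀.app (op U) = CommRingCat.ofHom ((M U).comp (secEquiv E U hU).toRingHom) := fun U hU =>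
    NatTrans.congr_app hres (op ⟨U, hU⟩)
  let strN : Y.presheaf ⟶ B.obj :=
    { app := fun U => CommRingCat.ofHom (str U.unop)
      naturality := fun U V i => CommRingCat.hom_ext (RingHom.ext fun r => strres U.unop V.unop i.unop.le r) }
  have hstr : (symGr E).str ≫ ψ₀ = strN := by
    apply (Functor.IsCoverDense.restrictHomEquivHom (G := G) (K := K) (ℱ := Y.presheaf) (ℱ' := B)).symm.injective
    ext U : 2
    change (symGr E).str.app (op U.unop.1) ≫ ψ₀.app (op U.unop.1) = strN.app (op U.unop.1)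
    rw [happ U.unop.1 U.unop.2]
    refine CommRingCat.hom_ext (RingHom.ext fun r => ?_)
    exact (congrArg (M U.unop.1) (secEquiv_str E U.unop.1 U.unop.2 r)).trans (Ma U.unop.1 r)
  let Q : RelSpec.QHom q (symGr E).toQCAlg 𝒮L.toQCAlg :=
    { app := fun U => ψ₀.app (op U)
      naturality := fun i => (ψ₀.naturality (homOfLE i).op).symm
      str_app := fun U => NatTrans.congr_app hstr (op U) }
  refine ⟨{ toQHom := Q, map_mem := ?_ }, fun U x => ?_⟩
  · intro U hU U' hU' hle d a ha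
    show (𝒮L.presheaf.map (homOfLE hle).op).hom ((ψ₀.app (op U)).hom a) ∈ 𝒮L.deg U' hU' d
    rw [happ U hU]
    show (𝒮L.presheaf.map (homOfLE hle).op).hom (M U (secEquiv E U hU a)) ∈ 𝒮L.deg U' hU' d
    have ha' : secEquiv E U hU a ∈ SymRing.piece Γ(Y, U) Γ(E, U) d := ha
    generalize secEquiv E U hU a = b at ha' ⊢
    clear ha
    induction ha' using Submodule.pow_induction_on_left' with
    | algebraMap r =>
      rw [Ma]
      have := ConcreteCategory.congr_hom (𝒮L.str.naturality (homOfLE hle).op) ((q.app U).hom r)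
      exact (show (𝒮L.presheaf.map (homOfLE hle).op).hom (str U r) = _ from this.symm) ▸ 𝒮L.str_mem U' hU' _
    | add x y i hx hy ihx ihy => rw [map_add, map_add]; exact add_mem ihx ihy
    | mem_mul m hm i x hx ih =>
      obtain ⟨e, rfl⟩ := hm
      rw [map_mul, map_mul, Mι, Nat.succ_eq_one_add]
      refine SetLike.mul_mem_graded ?_ ih
      rw [show (𝒮L.presheaf.map (homOfLE hle).op).hom (jL.app (q ⁻¹ᵁ U) (w.app U e)) =
          jL.app U' ((L.presheaf.map (homOfLE hle).op) (w.app U e)) from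
        (ConcreteCategory.congr_hom (jL.mapPresheaf.naturality (homOfLE hle).op) _).symm]
      exact hjL.2 U' hU' _
  · show (ψ₀.app (op U)).hom ((SymSheaf.j E).app U x) = _
    refine TopCat.Sheaf.eq_of_locally_eq' B (fun V : {V : Y.Opens // IsAffineOpen V ∧ V ≤ U} => V.1) U
      (fun V => homOfLE V.2.2) (fun y hy => ?_) _ _ fun V => ?_
    · obtain ⟨V, hV, hyV, hVU⟩ := exists_isAffineOpen_mem_and_subset hy
      exact Opens.mem_iSup.mpr ⟨⟨V, hV, hVU⟩, hyV⟩
    refine ((ConcreteCategory.congr_hom (ψ₀.naturality (homOfLE V.2.2).op) _).symm.trans ?_).trans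
      (jres U V.1 V.2.2 x)
    show (ψ₀.app (op V.1)).hom (((symGr E).presheaf.map (homOfLE V.2.2).op).hom ((SymSheaf.j E).app U x)) = _
    rw [happ V.1 V.2.1, show ((symGr E).presheaf.map (homOfLE V.2.2).op).hom ((SymSheaf.j E).app U x) =
      (SymSheaf.j E).app V.1 ((E.presheaf.map (homOfLE V.2.2).op) x) from
        (ConcreteCategory.congr_hom ((SymSheaf.j E).mapPresheaf.naturality (homOfLE V.2.2).op) x).symm]
    show M V.1 (secEquiv E V.1 V.2.1 _) = _
    rw [secEquiv_j E V.1 V.2.1, Mι]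

end Groth.L16.SymQHom
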