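import Groth.Agent.L16.LPsiAmple.VeryAmpleSig
import Groth.Agent.L16.LPsiAmple.SymQHom
import Groth.Agent.L16.LPsiAmple.LocalDataSol
import Groth.Agent.L16.Acc
import Groth.Agent.L18.PBundle.FTSub
import Groth.Agent.L18.PBundle.Refine

/-!
# Immersions into projective bundles of finite type
-/

set_option autoImplicit false
set_option linter.style.haveILetI false

noncomputable section

universe u

open CategoryTheory CategoryTheory.Limits AlgebraicGeometry TopologicalSpace Opposite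
open Groth.L18
open Groth.L18.Frame (rs ro rs_rs rs_self rs_smul ro_ro ro_self IsFrame)
open Groth.L16.LPsiAmple (res res_res mon mon_res mon_inj ext_cover)

namespace Groth.L16.LPsiRel

variable {Y X : Scheme.{u}} {q : X ⟶ Y} {L : X.Modules} [Coh.IsQCoh L] (hL : PicF.IsInvertible L)
  {𝒮L : RelProj.QCGrAlg X} {jL : L ⟶ 𝒮L.toModule} (hjL : RelProj.IsGrSymAlg L 𝒮L jL)
  {E : Y.Modules} {𝒜 : RelProj.QCGrAlg Y} {jE : E ⟶ 𝒜.toModule} (hE : RelProj.IsGrSymAlg E 𝒜 jE)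
  (u : RelProj.QGrHom q 𝒜 𝒮L)

include hL hjL in
theorem jL_injective (V : X.Opens) : Function.Injective (jL.app V) := by
  intro a b hab
  refine TopCat.Sheaf.eq_of_locally_eq' (⟨L.presheaf, L.isSheaf⟩ : TopCat.Sheaf Ab X.toTopCat)
    (fun W : {W : X.Opens // IsAffineOpen W ∧ W ≤ V ∧ ∃ e : Γ(L, W), IsFrame L W e} => W.1) V
    (fun W => homOfLE W.2.2.1) (fun x hx => ?_) _ _ ?_
  · obtain ⟨W, hW, e, hxW, hWV, he⟩ := SymInv.exists_affine_frame (L := L) hL x V hx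
    exact Opens.mem_iSup.mpr ⟨⟨W, hW, hWV, e, he⟩, hxW⟩
  rintro ⟨W, hW, hWV, e, he⟩
  show rs L hWV a = rs L hWV b
  obtain ⟨c, hc⟩ := he.exists_coeff le_rfl (rs L hWV a)
  obtain ⟨c', hc'⟩ := he.exists_coeff le_rfl (rs L hWV b)
  rw [rs_self] at hc hc'
  have hres : jL.app W (rs L hWV a) = jL.app W (rs L hWV b) := by
    refine (ConcreteCategory.congr_hom (jL.mapPresheaf.naturality (homOfLE hWV).op) a).trans ?_
    refine Eq.trans ?_ (ConcreteCategory.congr_hom (jL.mapPresheaf.naturality (homOfLE hWV).op) b).symm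
    exact congrArg (𝒮L.toModule.presheaf.map (homOfLE hWV).op) hab
  rw [← hc, ← hc'] at hres ⊢
  have h1 : ∀ d : Γ(X, W), (show 𝒮L.presheaf.obj (op W) from jL.app W (d • e)) = mon jL 1 d e := fun d => by
    rw [mon, pow_one]
    exact Scheme.Modules.Hom.app_smul jL d e
  refine congrArg (· • e) (mon_inj (n := 1) hjL hW he ?_)
  rw [← h1, ← h1, hres]

include hL hjL hE in
theorem exists_lin : ∃ w : E ⟶ (Scheme.Modules.pushforward q).obj L,
    ∀ (U : Y.Opens) (x : Γ(E, U)), (u.app U).hom ((jE.app U) x) = (jL.app (q ⁻¹ᵁ U)) (w.app U x) := by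
  have key : ∀ (U : Y.Opens) (x : Γ(E, U)), ∃ m : Γ(L, q ⁻¹ᵁ U),
      (show 𝒮L.presheaf.obj (op (q ⁻¹ᵁ U)) from jL.app (q ⁻¹ᵁ U) m) = (u.app U).hom ((jE.app U) x) := by
    intro U x
    set b := (u.app U).hom ((jE.app U) x) with hb
    have loc : ∀ z ∈ q ⁻¹ᵁ U, ∃ (W : X.Opens) (hW : W ≤ q ⁻¹ᵁ U) (m : Γ(L, W)), z ∈ W ∧
        (show 𝒮L.presheaf.obj (op W) from jL.app W m) = res 𝒮L hW b := fun z hz => by
      obtain ⟨U', hU', hzU', hle⟩ := exists_isAffineOpen_mem_and_subset (x := q.base z) (U := U) hz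
      obtain ⟨W, hW, e, hzW, hWU', he⟩ := SymInv.exists_affine_frame (L := L) hL z (q ⁻¹ᵁ U') hzU'
      have hmem : res 𝒮L (hWU'.trans (q.preimage_mono hle)) b ∈ 𝒮L.deg W hW 1 := by
        have h2 := u.map_mem U' hU' W hW hWU' (hE.2 U' hU' ((E.presheaf.map (homOfLE hle).op) x))
        refine Eq.mp (congrArg (· ∈ 𝒮L.deg W hW 1) ?_) h2
        rw [show (jE.app U') ((E.presheaf.map (homOfLE hle).op) x) =
            (𝒜.presheaf.map (homOfLE hle).op).hom ((jE.app U) x) from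
          ConcreteCategory.congr_hom (jE.mapPresheaf.naturality (homOfLE hle).op) x]
        exact ConcreteCategory.congr_hom (u.map_appLE hle hWU') _
      obtain ⟨c, hc⟩ := (SymInv.mem_deg_iff hjL hW he 1 _).mp hmem
      refine ⟨W, hWU'.trans (q.preimage_mono hle), c • e, hzW, ?_⟩
      rw [hc, pow_one]
      exact Scheme.Modules.Hom.app_smul jL c e
    choose W hW m hzW hm using fun z : (q ⁻¹ᵁ U : X.Opens) => loc z.1 z.2
    have hnat : ∀ {A B : X.Opens} (h : B ≤ A) (t : Γ(L, A)),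
        (show 𝒮L.presheaf.obj (op B) from jL.app B (rs L h t)) =
          res 𝒮L h (show 𝒮L.presheaf.obj (op A) from jL.app A t) := fun h t =>
      ConcreteCategory.congr_hom (jL.mapPresheaf.naturality (homOfLE h).op) t
    obtain ⟨t, ht, -⟩ := TopCat.Sheaf.existsUnique_gluing' (⟨L.presheaf, L.isSheaf⟩ : TopCat.Sheaf Ab X.toTopCat)
      W (q ⁻¹ᵁ U) (fun z => homOfLE (hW z)) (fun z hz => Opens.mem_iSup.2 ⟨⟨z, hz⟩, hzW ⟨z, hz⟩⟩) m fun z z' => by
        show rs L inf_le_left (m z) = rs L inf_le_right (m z')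
        refine jL_injective hL hjL _ ?_
        refine (hnat _ _).trans (Eq.trans ?_ (hnat _ _).symm)
        rw [hm, hm, res_res, res_res]
    refine ⟨t, ext_cover W hW (fun z hz => Opens.mem_iSup.2 ⟨⟨z, hz⟩, hzW ⟨z, hz⟩⟩) fun z => ?_⟩
    rw [← hnat (hW z) t, show rs L (hW z) t = m z from ht z, hm]
  choose w₀ hw₀ using key
  let t : ∀ U : Y.Opens, Γ(E, U) → Γ((Scheme.Modules.pushforward q).obj L, U) := fun U x => w₀ U x
  have hinj := fun U : Y.Opens => jL_injective (jL := jL) hL hjL (q ⁻¹ᵁ U)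
  have hadd : ∀ (U : Y.Opens) (x y : Γ(E, U)), t U (x + y) = t U x + t U y := fun U x y => by
    refine hinj U ?_
    refine (hw₀ U (x + y)).trans (Eq.trans ?_ (map_add (jL.app (q ⁻¹ᵁ U)).hom (w₀ U x) (w₀ U y)).symm)
    rw [map_add]
    exact ((map_add (u.app U).hom ((jE.app U) x) ((jE.app U) y)).trans
      (congrArg₂ (· + ·) (hw₀ U x).symm (hw₀ U y).symm))
  have hsm : ∀ (U : Y.Opens) (r : Γ(Y, U)) (x : Γ(E, U)), t U (r • x) = r • t U x := fun U r x => by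
    refine hinj U ?_
    refine (hw₀ U (r • x)).trans (Eq.trans ?_ ((Scheme.Modules.Hom.app_smul jL ((q.app U).hom r) (w₀ U x)).trans
      (SymSheaf.smul_toModule 𝒮L.toQCAlg _ _ _)).symm)
    rw [show (jE.app U) (r • x) = _ from
      (Scheme.Modules.Hom.app_smul jE r x).trans (SymSheaf.smul_toModule 𝒜.toQCAlg U r _)]
    rw [map_mul]
    exact congrArg₂ (· * ·) (ConcreteCategory.congr_hom (u.str_app U) r) (hw₀ U x).symm
  have hn : ∀ (U V : Y.Opens) (h : V ≤ U) (x : Γ(E, U)),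
      t V ((E.presheaf.map (homOfLE h).op) x) = rs L (q.preimage_mono h) (w₀ U x) := fun U V h x => by
    refine hinj V ?_
    refine (hw₀ V _).trans (Eq.trans ?_ (ConcreteCategory.congr_hom
      (jL.mapPresheaf.naturality (homOfLE (q.preimage_mono h)).op) (w₀ U x)).symm)
    rw [show (jE.app V) ((E.presheaf.map (homOfLE h).op) x) =
        (𝒜.presheaf.map (homOfLE h).op).hom ((jE.app U) x) from
      ConcreteCategory.congr_hom (jE.mapPresheaf.naturality (homOfLE h).op) x]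
    exact ((ConcreteCategory.congr_hom (u.naturality h) _).symm).trans
      (congrArg (𝒮L.presheaf.map (homOfLE (q.preimage_mono h)).op).hom (hw₀ U x).symm)
  let w : E ⟶ (Scheme.Modules.pushforward q).obj L := ⟨PresheafOfModules.homMk
    { app := fun U => AddCommGrpCat.ofHom (AddMonoidHom.mk' (fun x : Γ(E, U.unop) => t U.unop x) (hadd U.unop))
      naturality := fun {U V} i => by
        ext x
        exact hn U.unop V.unop i.unop.le x }
    (fun U r x => hsm U.unop r x)⟩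
  exact ⟨w, fun U x => (hw₀ U x).symm⟩

variable {PL : Scheme.{u}} {pL : PL ⟶ X}
  {chartL : ∀ (U : X.Opens) (hU : IsAffineOpen U), (((pL ⁻¹ᵁ U : PL.Opens) : Scheme.{u}) ≅ Proj (𝒮L.deg U hU))}
  (hPL : RelProj.IsRelProj 𝒮L pL chartL)
  {w : E ⟶ (Scheme.Modules.pushforward q).obj L}
  (hu : ∀ (U : Y.Opens) (x : Γ(E, U)), (u.app U).hom ((jE.app U) x) = (jL.app (q ⁻¹ᵁ U)) (w.app U x))

include hL hjL hE hPL hu in
theorem exists_frame_of_surj {x : X} {U : Y.Opens} (hU : IsAffineOpen U) (e : Γ(E, U)) {V : X.Opens}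
    (hV : IsAffineOpen V) (hVU : V ≤ q ⁻¹ᵁ U) (hxV : x ∈ V)
    (hsub : ((𝒮L.deg V hV 1 : AddSubgroup (𝒮L.presheaf.obj (op V))) : Set (𝒮L.presheaf.obj (op V))) ⊆
      (Ideal.span {(u.appLE U V hVU).hom ((jE.app U) e)} : Set (𝒮L.presheaf.obj (op V)))) :
    ∃ (W : X.Opens) (_ : IsAffineOpen W) (hWU : W ≤ q ⁻¹ᵁ U), x ∈ W ∧
      IsFrame L W (rs L hWU (show Γ(L, q ⁻¹ᵁ U) from w.app U e)) := by
  haveI := SymInv.isIso_relProj hjL hL hPL
  have hel := PBundle.el_mem hE hU e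
  have hx : x ∈ nvU (j := jL) u 1 (PBundle.el jE e) := by
    obtain ⟨ξ, rfl⟩ : ∃ ξ, pL.base ξ = x :=
      ⟨(inv pL).base x, by rw [← Scheme.Hom.comp_apply, IsIso.inv_hom_id]; rfl⟩
    obtain ⟨v, rfl⟩ := QMap.exists_point (chart := chartL) V hV ξ hxV
    refine (emb_mem_nvU_iff u hL hjL hPL hel hV hVU v).mpr fun hmem => ?_
    obtain ⟨t, ht, htv⟩ := RelTilde.irr_le_span (PBundle.isGenDegOne_of_isGrSymAlg inferInstance hjL) V hV v
    exact htv ((Ideal.span_le.mpr (by rintro _ rfl; exact hmem)) (hsub ht))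
  obtain ⟨W, hW, ε, hxW, hWN, hε⟩ := SymInv.exists_affine_frame (L := L) hL x _ hx
  have hWU : W ≤ q ⁻¹ᵁ U := hWN.trans (nvU_le u _ _)
  obtain ⟨c, hcu, hc⟩ := unit_coeff u hL hjL hPL hel hW hWN hε
  refine ⟨W, hW, hWU, hxW, ?_⟩
  obtain ⟨a, ha⟩ := hε.exists_coeff le_rfl (rs L hWU (show Γ(L, q ⁻¹ᵁ U) from w.app U e))
  rw [rs_self] at ha
  rw [au_el w u hu e hWU, ← ha, mon, pow_one, show SymInv.gen jL (a • ε) = _ from
    (Scheme.Modules.Hom.app_smul jL a ε)] at hc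
  have hac : a = c := mon_inj (n := 1) hjL hW hε (by rw [mon, mon, pow_one]; exact hc)
  rw [← ha, hac]
  exact hε.smul_unit hcu

include hL hjL hPL in
/-- Locally embedding sections out of a module of finite type give the bundle immersion. -/
theorem immersion_of_localGen {F : Y.Modules} (hF : Coh.IsQCoh F) {ι' : F ⟶ (Scheme.Modules.pushforward q).obj L}
    (hgen : PBundle.HasLocalGen q L ι') {𝒯 : RelProj.QCGrAlg Y} {jF : F ⟶ 𝒯.toModule}
    (hj : RelProj.IsGrSymAlg F 𝒯 jF) (u' : RelProj.QGrHom q 𝒯 𝒮L)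
    (hu' : ∀ (U : Y.Opens) (x : Γ(F, U)), (u'.app U).hom ((jF.app U) x) = (jL.app (q ⁻¹ᵁ U)) (ι'.app U x)) :
    (∀ x : X, ∃ (U : Y.Opens) (_ : IsAffineOpen U) (e : Γ(F, U)) (V : X.Opens) (hV : IsAffineOpen V)
        (hVU : V ≤ q ⁻¹ᵁ U), x ∈ V ∧
          ((𝒮L.deg V hV 1 : AddSubgroup (𝒮L.presheaf.obj (op V))) : Set (𝒮L.presheaf.obj (op V))) ⊆
            (Ideal.span {(u'.appLE U V hVU).hom ((jF.app U) e)} : Set (𝒮L.presheaf.obj (op V)))) ∧
    ∀ (P : Scheme.{u}) (p : P ⟶ Y)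
        (chart : ∀ (U : Y.Opens) (hU : IsAffineOpen U), (((p ⁻¹ᵁ U : P.Opens) : Scheme.{u}) ≅ Proj (𝒯.deg U hU)))
        (_ : RelProj.IsRelProj 𝒯 p chart) (r : ((RelProj.domQ u' pL chartL : PL.Opens) : Scheme.{u}) ⟶ P)
        (_ : RelProj.IsProjQMapOn u' p chart pL chartL (RelProj.domQ u' pL chartL) r),
      RelProj.domQ u' pL chartL = ⊤ ∧ IsImmersion r := by
  refine ⟨fun x => ?_, fun P p chart hP r hr => ?_⟩
  · obtain ⟨V, hV, T, hT, γ, e₀, e, c, hfr, -, hxc, -, -⟩ := hgen x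
    obtain ⟨W, hW, hxW, hWT⟩ := exists_isAffineOpen_mem_and_subset (x := x) (U := T) (X.basicOpen_le c hxc)
    refine ⟨V, hV, e₀, W, hW, hWT.trans hT, hxW, fun y hy => ?_⟩
    have hf := hfr.mono hWT
    rw [rs_rs] at hf
    obtain ⟨a, rfl⟩ := (SymInv.mem_deg_iff hjL hW hf 1 y).mp hy
    refine Ideal.mem_span_singleton'.mpr ⟨(𝒮L.str.app (op W)).hom a, ?_⟩
    rw [pow_one]
    exact congrArg (_ * ·) (au_el ι' u' hu' e₀ (hWT.trans hT))
  obtain ⟨htop, r', hr'p, hr', O1, lam, φ, hO1, hφ, hsol⟩ :=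
    exists_sol ι' u' hu' hL hjL hj hF hPL hP hr fun x => by
      obtain ⟨V, hV, T, hT, γ, e₀, e, c, hfr, -, hxc, -, -⟩ := hgen x
      obtain ⟨W, hW, hxW, hWT⟩ := exists_isAffineOpen_mem_and_subset (x := x) (U := T) (X.basicOpen_le c hxc)
      have hf := hfr.mono hWT
      rw [rs_rs] at hf
      exact ⟨V, hV, e₀, W, hW, hWT.trans hT, hxW, hf⟩
  refine ⟨htop, ?_⟩
  haveI := SymInv.isIso_relProj hjL hL hPL
  haveI := QMap.isIso_ι_of_eq_top _ htop
  haveI := PBundle.isImmersion_of_localGen hF hgen hj hO1 hφ hsol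
  rw [← hr']
  infer_instance

include hL hjL hE hPL in
/-- Immersions into the bundle of any module come from bundles of submodules of finite type. -/
theorem exists_ft_iff [CompactSpace Y] [QuasiSeparatedSpace Y] [QuasiCompact q] [LocallyOfFiniteType q]
    (hEq : Coh.IsQCoh E)
    (hsurj : ∀ x : X, ∃ (U : Y.Opens) (_ : IsAffineOpen U) (e : Γ(E, U)) (V : X.Opens) (hV : IsAffineOpen V)
        (hVU : V ≤ q ⁻¹ᵁ U), x ∈ V ∧
          ((𝒮L.deg V hV 1 : AddSubgroup (𝒮L.presheaf.obj (op V))) : Set (𝒮L.presheaf.obj (op V))) ⊆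
            (Ideal.span {(u.appLE U V hVU).hom ((jE.app U) e)} : Set (𝒮L.presheaf.obj (op V))))
    {P : Scheme.{u}} {p : P ⟶ Y}
    {chart : ∀ (U : Y.Opens) (hU : IsAffineOpen U), (((p ⁻¹ᵁ U : P.Opens) : Scheme.{u}) ≅ Proj (𝒜.deg U hU))}
    (hP : RelProj.IsRelProj 𝒜 p chart) {r : ((RelProj.domQ u pL chartL : PL.Opens) : Scheme.{u}) ⟶ P}
    (hr : RelProj.IsProjQMapOn u p chart pL chartL (RelProj.domQ u pL chartL) r) :
    IsImmersion r ↔
      ∃ (F : Y.Modules) (_ : Coh.IsQCoh F) (_ : CohB1.IsFT F) (ι : F ⟶ E) (_ : ∀ U : Y.Opens, Function.Injective (ι.app U))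
        (𝒯 : RelProj.QCGrAlg Y) (jF : F ⟶ 𝒯.toModule) (_ : RelProj.IsGrSymAlg F 𝒯 jF)
        (u' : RelProj.QGrHom q 𝒯 𝒮L)
        (_ : ∀ (U : Y.Opens) (x : Γ(F, U)), (u'.app U).hom ((jF.app U) x) = (u.app U).hom ((jE.app U) ((ι.app U) x))),
        (∀ x : X, ∃ (U : Y.Opens) (_ : IsAffineOpen U) (e : Γ(F, U)) (V : X.Opens) (hV : IsAffineOpen V)
            (hVU : V ≤ q ⁻¹ᵁ U), x ∈ V ∧
              ((𝒮L.deg V hV 1 : AddSubgroup (𝒮L.presheaf.obj (op V))) : Set (𝒮L.presheaf.obj (op V))) ⊆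
              (Ideal.span {(u'.appLE U V hVU).hom ((jF.app U) e)} : Set (𝒮L.presheaf.obj (op V)))) ∧
        ∀ (P' : Scheme.{u}) (p' : P' ⟶ Y)
            (chart' : ∀ (U : Y.Opens) (hU : IsAffineOpen U), (((p' ⁻¹ᵁ U : P'.Opens) : Scheme.{u}) ≅ Proj (𝒯.deg U hU)))
            (_ : RelProj.IsRelProj 𝒯 p' chart')
            (r' : ((RelProj.domQ u' pL chartL : PL.Opens) : Scheme.{u}) ⟶ P')
            (_ : RelProj.IsProjQMapOn u' p' chart' pL chartL (RelProj.domQ u' pL chartL) r'),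
          RelProj.domQ u' pL chartL = ⊤ ∧ IsImmersion r' := by
  classical
  haveI := hEq
  haveI : CompactSpace X := QuasiCompact.compactSpace_of_compactSpace q
  haveI := SymInv.isIso_relProj hjL hL hPL
  obtain ⟨w, hw⟩ := exists_lin hL hjL hE u
  have hcov : ∀ x : X, ∃ (U : Y.Opens) (_ : IsAffineOpen U) (σ : Γ(E, U))
      (W : X.Opens) (_ : IsAffineOpen W) (hWU : W ≤ q ⁻¹ᵁ U), x ∈ W ∧
      IsFrame L W (rs L hWU (show Γ(L, q ⁻¹ᵁ U) from w.app U σ)) := fun x => by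
    obtain ⟨U, hU, e, V, hV, hVU, hxV, hsub⟩ := hsurj x
    obtain ⟨W, hW, hWU, hxW, hf⟩ := exists_frame_of_surj hL hjL hE u hPL hw hU e hV hVU hxV hsub
    exact ⟨U, hU, e, W, hW, hWU, hxW, hf⟩
  obtain ⟨htop, r₁, hr₁p, hr₁, O1, lam, φ, hO1, hφ, hsol⟩ := exists_sol w u hw hL hjL hE hEq hPL hP hr hcov
  haveI := QMap.isIso_ι_of_eq_top _ htop
  have hiff : IsImmersion r ↔ IsImmersion r₁ := by
    refine ⟨fun h => ?_, fun h => ?_⟩
    · have e : r₁ = inv ((RelProj.domQ u pL chartL).ι ≫ pL) ≫ r := by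
        rw [← hr₁, ← Category.assoc _ pL, IsIso.inv_hom_id_assoc]
      rw [e]
      infer_instance
    · rw [← hr₁]
      infer_instance
  refine hiff.trans ⟨fun himm => ?_, ?_⟩
  · choose V hV hxV _ using fun x : X => exists_isAffineOpen_mem_and_subset (x := q x) (U := ⊤) trivial
    choose e₀ T hT γ hγ e c hfr hmax hxc haffc hgen using fun x : X =>
      Loc.exists_local_data q hEq hE hP hO1 hφ hsol (hV x) (x := x) (hxV x)
    obtain ⟨S, hS⟩ := isCompact_univ.elim_finite_subcover (fun x : X => (X.basicOpen (c x) : Set X))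
      (fun x => (X.basicOpen (c x)).2) (fun x _ => Set.mem_iUnion.2 ⟨x, hxc x⟩)
    let t : ∀ x : X, Option (γ x) → Γ(E, V x) := fun x o => o.elim (e₀ x) (e x)
    obtain ⟨F, ι, hι, hF, hmem⟩ := Groth.L17.Approx.exists_submodule_finset E
      V (fun x => (hV x).isCompact) (fun x => Option (γ x)) t S
    haveI := hι
    haveI := hF.1
    have hloc : PBundle.HasLocalGen q L (ι ≫ w) := fun x => by
      obtain ⟨y, hy, hxy⟩ := Set.mem_iUnion₂.1 (hS (Set.mem_univ x))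
      choose g hg using hmem y hy
      have hg0 : (ι ≫ w).app (V y) (g none) = w.app (V y) (e₀ y) := congrArg (w.app (V y)) (hg none)
      have hgk : ∀ k, (ι ≫ w).app (V y) (g (some k)) = w.app (V y) (e y k) :=
        fun k => congrArg (w.app (V y)) (hg (some k))
      refine ⟨V y, hV y, T y, hT y, γ y, g none, fun k => g (some k), c y, ?_, ?_, hxy, haffc y, ?_⟩
      · rw [hg0]
        exact hfr y
      · simp only [hg0]
        exact hmax y
      · simp only [hg0, hgk]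
        exact hgen y
    obtain ⟨u', hu'⟩ := SymQHom.exists_qgrHom q 𝒮L jL hjL (ι ≫ w)
    have hj := SymSheaf.isGrSymAlg F
    obtain ⟨h1, h2⟩ := immersion_of_localGen hL hjL hPL hF.1 hloc hj u' hu'
    exact ⟨F, hF.1, hF.2, ι, fun U => Acc.app_injective ι U, _, _, hj, u',
      fun U x => (hu' U x).trans (hw U (ι.app U x)).symm, h1, h2⟩
  · rintro ⟨F, hF, -, ι, -, 𝒯, jF, hjF, u', hu', hsurj', himm'⟩
    obtain ⟨P', p', chart', hP'⟩ := RP.exists_isRelProj 𝒯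
    obtain ⟨r', hr', -⟩ := QMap.existsUnique_on u' hP' hPL
    have hw' : ∀ (U : Y.Opens) (x : Γ(F, U)),
        (u'.app U).hom ((jF.app U) x) = (jL.app (q ⁻¹ᵁ U)) ((ι ≫ w).app U x) :=
      fun U x => (hu' U x).trans (hw U (ι.app U x))
    obtain ⟨htop', r₂, hr₂p, hr₂, O1', lam', φ', hO1', hφ', hsol'⟩ :=
      exists_sol (ι ≫ w) u' hw' hL hjL hjF hF hPL hP' hr' fun x => by
        obtain ⟨U, hU, e, V, hV, hVU, hxV, hsub⟩ := hsurj' x
        obtain ⟨W, hW, hWU, hxW, hf⟩ := exists_frame_of_surj hL hjL hjF u' hPL hw' hU e hV hVU hxV hsub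
        exact ⟨U, hU, e, W, hW, hWU, hxW, hf⟩
    haveI := QMap.isIso_ι_of_eq_top _ htop'
    haveI := (himm' P' p' chart' hP' r' hr').2
    haveI : IsImmersion r₂ := by
      have e : r₂ = inv ((RelProj.domQ u' pL chartL).ι ≫ pL) ≫ r' := by
        rw [← hr₂, ← Category.assoc _ pL, IsIso.inv_hom_id_assoc]
      rw [e]
      infer_instance
    refine PBundle.isImmersion_of_refines hE hO1 hφ hF hjF hP' hO1' hφ' hsol hsol' fun x => ?_
    obtain ⟨_, ⟨U, hU, rfl⟩, hxU, -⟩ :=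
      Y.isBasis_affineOpens.exists_subset_of_mem_open (Set.mem_univ (q x)) isOpen_univ
    obtain ⟨e₀, he₀⟩ := PBundle.exists_mem_dom (chart := chart') hjF hU hF (z := r₂ x) (PBundle.le_base hr₂p U hxU)
    let f : Γ(F, U) →ₗ[Γ(Y, U)] Γ(E, U) :=
      { toFun := fun e => ι.app U e
        map_add' := fun a b => map_add _ a b
        map_smul' := fun c e => Scheme.Modules.Hom.app_smul ι c e }
    refine ⟨U, hU, e₀, f, (r₁.preimage_mono (PBundle.dom_le chart jE U hU (f e₀))).trans (PBundle.base_le hr₁p U),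
      hsol.mem hEq hE hO1 hφ hU (f e₀) ((r₂.preimage_mono (PBundle.dom_le chart' jF U hU e₀)).trans
        (PBundle.base_le hr₂p U)) (hsol'.isFrame hjF hO1' hφ' hU e₀) he₀,
      hsol.isFrame hE hO1 hφ hU (f e₀), fun e c hc => hc⟩

end Groth.L16.LPsiRel
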