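import Groth.Agent.L16.LPsiAmple.Elem
import Groth.Agent.L18.LPsi.Dominant
import Mathlib.AlgebraicGeometry.Morphisms.SchemeTheoreticallyDominant

/-!
# The morphism to `Proj` of the section ring of an ample module
-/

set_option autoImplicit false
set_option linter.style.haveILetI false

noncomputable section

universe u

open CategoryTheory CategoryTheory.Limits AlgebraicGeometry TopologicalSpace Opposite
open Groth.L18
open Groth.L18.LPsi (fOn nv stdOpen toRingMap)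

namespace Groth.L16.LPsiAmple

variable {Y X P PL : Scheme.{u}} {q : X ⟶ Y} {L : X.Modules} {𝒮 : RelProj.QCGrAlg Y} {𝒮L : RelProj.QCGrAlg X}
  {j : L ⟶ 𝒮L.toModule} (u : RelProj.QGrHom q 𝒮 𝒮L) {hY : IsAffineOpen (⊤ : Y.Opens)}
  [Coh.IsQCoh L] (hL : PicF.IsInvertible L) (hj : RelProj.IsGrSymAlg L 𝒮L j)
  {p : P ⟶ Y} {chart : ∀ (U : Y.Opens) (hU : IsAffineOpen U), (((p ⁻¹ᵁ U : P.Opens) : Scheme.{u}) ≅ Proj (𝒮.deg U hU))}
  (hP : RelProj.IsRelProj 𝒮 p chart)
  {pL : PL ⟶ X} {chartL : ∀ (U : X.Opens) (hU : IsAffineOpen U), (((pL ⁻¹ᵁ U : PL.Opens) : Scheme.{u}) ≅ Proj (𝒮L.deg U hU))}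
  (hPL : RelProj.IsRelProj 𝒮L pL chartL)
  {r : ((RelProj.domQ u pL chartL : PL.Opens) : Scheme.{u}) ⟶ P}
  (hr : RelProj.IsProjQMapOn u p chart pL chartL (RelProj.domQ u pL chartL) r)

include hY hL hj hP hPL hr in
/-- With an ample module the morphism is an everywhere defined open immersion. -/
theorem domQ_top_and_isOpenImmersion (hA : CohB1.IsAmple L) (hu : Function.Bijective (u.app ⊤).hom) :
    RelProj.domQ u pL chartL = ⊤ ∧ IsOpenImmersion r := by
  haveI := hA.2.1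
  haveI := Ample.isSeparated_of_isAmple hA
  choose d hd s hs hx haff using exists_affine_cover u hL hj hPL (hY := hY) hA hu
  exact (LPsi.isOpenImmersion_iff u hY hL hj hP hPL hr).mpr
    ⟨X, d, s, fun x => nv u (d x) (s x), fun x => ⟨hd x, hs x⟩, fun _ => rfl,
      top_le_iff.mp fun x _ => Opens.mem_iSup.mpr ⟨x, hx x⟩, haff,
      fun x => condSurj u hL hj hPL hu (hs x), fun x => condInj u hL hj hPL hu.1 (hs x)⟩

include hL hj hP hPL hr in
theorem app_stdOpen_injective [CompactSpace X] (hu : Function.Injective (u.app ⊤).hom) {d : ℕ} (hd : 0 < d)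
    {s : 𝒮.presheaf.obj (op ⊤)} (hs : s ∈ 𝒮.deg ⊤ hY d) :
    Function.Injective (r.app (stdOpen p chart hd hs)).hom := by
  obtain ⟨T, g, hpb, hT⟩ := LPsi.exists_restrict u hL hj hP hPL hr hd hs
  have hg := (LPsi.injective_iff u hL hj hP hPL hr hd hs hpb.w hT).mpr (condInj u hL hj hPL hu hs)
  set a := QMap.aEmb p chart ⊤ hY hd s hs
  have hga : Function.Injective g.appTop.hom := by
    intro x y h
    apply (ConcreteCategory.bijective_of_isIso (Scheme.ΓSpecIso _).hom).1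
    apply hg
    simp only [toRingMap, CommRingCat.hom_comp, RingHom.comp_apply, Iso.hom_inv_id_apply, h]
  have ha : ⊤ ≤ a ⁻¹ᵁ stdOpen p chart hd hs := fun x _ => ⟨x, rfl⟩
  have hTle : ⊤ ≤ T ⁻¹ᵁ (r ⁻¹ᵁ stdOpen p chart hd hs) := fun x _ => by
    show r (T x) ∈ stdOpen p chart hd hs
    rw [← Scheme.Hom.comp_apply, hpb.w, Scheme.Hom.comp_apply]
    exact ⟨g x, rfl⟩
  have hab : Function.Injective (a.appLE (stdOpen p chart hd hs) ⊤ ha).hom := by
    have key : ∀ (W : P.Opens) (e : W = a ''ᵁ ⊤) (h : ⊤ ≤ a ⁻¹ᵁ W), Function.Injective (a.appLE W ⊤ h).hom := by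
      rintro W rfl h
      rw [← a.appIso_hom']
      exact (ConcreteCategory.bijective_of_isIso (a.appIso ⊤).hom).1
    exact key _ a.image_top_eq_opensRange.symm ha
  have e : r.app (stdOpen p chart hd hs) ≫ T.appLE _ ⊤ hTle =
      a.appLE (stdOpen p chart hd hs) ⊤ ha ≫ g.appTop := by
    rw [Scheme.Hom.app_eq_appLE, Scheme.Hom.appLE_comp_appLE,
      show g.appTop = g.appLE ⊤ ⊤ le_top from Scheme.Hom.app_eq_appLE _, Scheme.Hom.appLE_comp_appLE]
    simp only [hpb.w]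
  intro x y h
  refine hab (hga ?_)
  show (a.appLE _ ⊤ ha ≫ g.appTop) x = (a.appLE _ ⊤ ha ≫ g.appTop) y
  rw [← e]
  exact congrArg (T.appLE _ ⊤ hTle).hom h

include hY hL hj hP hPL hr in
/-- Scheme-theoretic dominance. -/
theorem isSchemeTheoreticallyDominant [CompactSpace X] [QuasiCompact r] (hu : Function.Injective (u.app ⊤).hom) :
    IsSchemeTheoreticallyDominant r := by
  refine ⟨Scheme.IdealSheafData.ext_of_iSup_eq_top
    (fun ds : {ds : ℕ × (𝒮.presheaf.obj (op ⊤) : Type u) // 0 < ds.1 ∧ ds.2 ∈ 𝒮.deg ⊤ hY ds.1} =>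
      (⟨stdOpen p chart ds.2.1 ds.2.2, isAffineOpen_opensRange _⟩ : P.affineOpens)) ?_ fun ds => ?_⟩
  · refine top_le_iff.mp fun y _ => ?_
    obtain ⟨d, hd, s, hs, hy, -⟩ := LPsi.exists_stdOpen_le (hY := hY) (chart := chart) ⊤ y trivial
    exact Opens.mem_iSup.mpr ⟨⟨(d, s), hd, hs⟩, hy⟩
  · rw [Scheme.Hom.ker_apply]
    exact (RingHom.injective_iff_ker_eq_bot _).mp (app_stdOpen_injective u hL hj hP hPL hr hu ds.2.1 ds.2.2)

end Groth.L16.LPsiAmple
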