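import Groth.Agent.L16.LPsiAmple.Elem

/-!
# Non-vanishing loci over an affine open of the base
-/

set_option autoImplicit false
set_option linter.style.haveILetI false

noncomputable section

universe u

open CategoryTheory CategoryTheory.Limits AlgebraicGeometry TopologicalSpace Opposite
open Groth.L18
open Groth.L18.Frame (rs ro rs_rs rs_self rs_smul ro_ro ro_self IsFrame)
open Groth.L18.NormDesc (pf pf_rs pf_smul isFrame_pf)
open Groth.L18.Contract (secLocus secLocus_le secLocus_inf_eq mem_secLocus)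
open Groth.L16.LPsiAmple (res res_res mon mon_res mon_mul mon_pow mon_zero mon_inj mon_mem mon_congr ext_cover ro_mul')

namespace Groth.L16.LPsiRel

variable {Y X P PL : Scheme.{u}} {q : X ⟶ Y} {L : X.Modules} {𝒮 : RelProj.QCGrAlg Y} {𝒮L : RelProj.QCGrAlg X}
  {j : L ⟶ 𝒮L.toModule} (u : RelProj.QGrHom q 𝒮 𝒮L) {U : Y.Opens} {hU : IsAffineOpen U}
  [Coh.IsQCoh L] (hL : PicF.IsInvertible L) (hj : RelProj.IsGrSymAlg L 𝒮L j)
  {pL : PL ⟶ X} {chartL : ∀ (U : X.Opens) (hU : IsAffineOpen U), (((pL ⁻¹ᵁ U : PL.Opens) : Scheme.{u}) ≅ Proj (𝒮L.deg U hU))}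
  (hPL : RelProj.IsRelProj 𝒮L pL chartL)

/-- An element over `U` on an open over `U`. -/
abbrev au {W : X.Opens} (h : W ≤ q ⁻¹ᵁ U) : 𝒮.presheaf.obj (op U) →+* 𝒮L.presheaf.obj (op W) :=
  (u.appLE U W h).hom

omit [Coh.IsQCoh L] in
theorem au_res {V W : X.Opens} (h : V ≤ q ⁻¹ᵁ U) (h' : W ≤ V) (x : 𝒮.presheaf.obj (op U)) :
    res 𝒮L h' (au u h x) = au u (h'.trans h) x :=
  ConcreteCategory.congr_hom (u.appLE_map (U := U) h h') x

omit [Coh.IsQCoh L] in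
theorem res_app (s : 𝒮.presheaf.obj (op U)) {W : X.Opens} (h : W ≤ q ⁻¹ᵁ U) :
    res 𝒮L h ((u.app U).hom s) = au u h s := rfl

include hPL in
theorem indep {d : ℕ} {s : 𝒮.presheaf.obj (op U)} (hs : s ∈ 𝒮.deg U hU d)
    {V : X.Opens} (hV : IsAffineOpen V) (hle : V ≤ q ⁻¹ᵁ U) (v : Proj (𝒮L.deg V hV))
    {W : X.Opens} (hW : IsAffineOpen W) (hle' : W ≤ q ⁻¹ᵁ U) (w : Proj (𝒮L.deg W hW))
    (he : (RelProj.emb pL chartL W hW).base w = (RelProj.emb pL chartL V hV).base v) :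
    au u hle s ∉ v.asHomogeneousIdeal ↔ au u hle' s ∉ w.asHomogeneousIdeal := by
  obtain ⟨O, hO, hxO, hOle⟩ := exists_isAffineOpen_mem_and_subset
    (x := pL.base ((RelProj.emb pL chartL V hV).base v)) (U := V ⊓ W)
    ⟨QMap.π_emb_mem V hV v, he ▸ QMap.π_emb_mem W hW w⟩
  obtain ⟨z, hz⟩ := QMap.exists_point (chart := chartL) O hO _ hxO
  have hOV : O ≤ V := fun y hy => (hOle hy).1
  have hOW : O ≤ W := fun y hy => (hOle hy).2
  have key : ∀ {V' : X.Opens} (hV' : IsAffineOpen V') (h : V' ≤ q ⁻¹ᵁ U) (hO' : O ≤ V') (v' : Proj (𝒮L.deg V' hV')),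
      (RelProj.emb pL chartL V' hV').base v' = (RelProj.emb pL chartL O hO).base z →
      (au u h s ∈ v'.asHomogeneousIdeal ↔ au u (hO'.trans h) s ∈ z.asHomogeneousIdeal) := by
    intro V' hV' h hO' v' he'
    rw [← au_res u h hO' s]
    exact (QMap.point_compat hPL hV' hO hO' he' _).symm
  exact not_congr ((key hV hle hOV v hz.symm).trans (key hW hle' hOW w (he.trans hz.symm)).symm)

/-- The open `X_s ⊆ q⁻¹(U)`. -/
def nvU (d : ℕ) (s : 𝒮.presheaf.obj (op U)) : X.Opens :=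
  ⨆ k : {k : Σ (W : X.affineOpens), Γ(L, (W.1 : X.Opens)) × Γ(X, (W.1 : X.Opens)) //
      ∃ h : (k.1.1 : X.Opens) ≤ q ⁻¹ᵁ U, IsFrame L k.1.1 k.2.1 ∧ au u h s = mon j d k.2.2 k.2.1},
    X.basicOpen k.1.2.2

omit [Coh.IsQCoh L] in
theorem nvU_le (d : ℕ) (s : 𝒮.presheaf.obj (op U)) : nvU (j := j) u d s ≤ q ⁻¹ᵁ U :=
  iSup_le fun k => (X.basicOpen_le _).trans k.2.1

include hj in
theorem exists_coeff_au {d : ℕ} {s : 𝒮.presheaf.obj (op U)} (hs : s ∈ 𝒮.deg U hU d) {W : X.Opens}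
    (hW : IsAffineOpen W) (h : W ≤ q ⁻¹ᵁ U) {e : Γ(L, W)} (he : IsFrame L W e) :
    ∃ c : Γ(X, W), au u h s = mon j d c e :=
  LPsi.exists_coeff hj hW he (u.map_mem U hU W hW h hs)

include hL hj hPL in
theorem emb_mem_nvU_iff {d : ℕ} {s : 𝒮.presheaf.obj (op U)} (hs : s ∈ 𝒮.deg U hU d) {V : X.Opens}
    (hV : IsAffineOpen V) (hle : V ≤ q ⁻¹ᵁ U) (v : Proj (𝒮L.deg V hV)) :
    pL.base ((RelProj.emb pL chartL V hV).base v) ∈ nvU (j := j) u d s ↔ au u hle s ∉ v.asHomogeneousIdeal := by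
  constructor
  · intro hx
    obtain ⟨⟨⟨⟨W, hW⟩, e, c⟩, hWle, he, hc⟩, hxc⟩ := Opens.mem_iSup.mp hx
    obtain ⟨w, hw⟩ := QMap.exists_point (chart := chartL) W hW _ (X.basicOpen_le c hxc)
    refine (indep u hPL hs hV hle v hW hWle w hw).mpr ((LPsi.not_mem_iff_coeff hPL hj hW he hc w).mpr ?_)
    rw [hw]; exact hxc
  · intro hv
    obtain ⟨W, hW, e, hxW, hWV, he⟩ := SymInv.exists_affine_frame (L := L) hL _ V (QMap.π_emb_mem V hV v)
    obtain ⟨w, hw⟩ := QMap.exists_point (chart := chartL) W hW _ hxW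
    obtain ⟨c, hc⟩ := exists_coeff_au u hj hs hW (hWV.trans hle) he
    have hxc := (LPsi.not_mem_iff_coeff hPL hj hW he hc w).mp
      ((indep u hPL hs hV hle v hW (hWV.trans hle) w hw).mp hv)
    rw [hw] at hxc
    exact Opens.mem_iSup.mpr ⟨⟨⟨⟨W, hW⟩, e, c⟩, hWV.trans hle, he, hc⟩, hxc⟩

include hL hj hPL in
theorem nvU_inf_eq {d : ℕ} {s : 𝒮.presheaf.obj (op U)} (hs : s ∈ 𝒮.deg U hU d) {W : X.Opens}
    (hW : IsAffineOpen W) (h : W ≤ q ⁻¹ᵁ U) {e : Γ(L, W)} (he : IsFrame L W e) {c : Γ(X, W)}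
    (hc : au u h s = mon j d c e) : nvU (j := j) u d s ⊓ W = X.basicOpen c := by
  haveI := SymInv.isIso_relProj hj hL hPL
  have key : ∀ x ∈ W, x ∈ nvU (j := j) u d s ↔ x ∈ X.basicOpen c := by
    intro x hxW
    obtain ⟨ξ, rfl⟩ : ∃ ξ, pL.base ξ = x := ⟨(inv pL).base x, by rw [← Scheme.Hom.comp_apply, IsIso.inv_hom_id]; rfl⟩
    obtain ⟨v, rfl⟩ := QMap.exists_point (chart := chartL) W hW ξ hxW
    exact (emb_mem_nvU_iff u hL hj hPL hs hW h v).trans (LPsi.not_mem_iff_coeff hPL hj hW he hc v)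
  ext x
  exact ⟨fun ⟨h1, h2⟩ => (key x h2).mp h1,
    fun h' => ⟨(key x (X.basicOpen_le c h')).mpr h', X.basicOpen_le c h'⟩⟩

omit [Coh.IsQCoh L] in
theorem exists_deg_of_bij (hu : Function.Bijective (u.app U).hom) {d : ℕ} {ι : Type*} (W : ι → X.Opens)
    (hW : ∀ i, IsAffineOpen (W i)) (hle : ∀ i, W i ≤ q ⁻¹ᵁ U) (hcov : q ⁻¹ᵁ U ≤ ⨆ i, W i)
    (y : 𝒮L.presheaf.obj (op (q ⁻¹ᵁ U))) (hy : ∀ i, res 𝒮L (hle i) y ∈ 𝒮L.deg (W i) (hW i) d) :
    ∃ s ∈ 𝒮.deg U hU d, (u.app U).hom s = y := by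
  classical
  obtain ⟨s₀, rfl⟩ := hu.2 y
  refine ⟨DirectSum.decompose (𝒮.deg U hU) s₀ d, SetLike.coe_mem _, ?_⟩
  refine ext_cover W hle hcov fun i => ?_
  rw [res_app u _ (hle i), res_app u _ (hle i)]
  refine ((u.gradedAt U hU (W i) (hW i) (hle i)).map_directSumDecompose).trans ?_
  exact DirectSum.decompose_of_mem_same _ (hy i)

include hL hj hPL in
theorem exists_elem_of_sec (hu : Function.Bijective (u.app U).hom) {n : ℕ}
    (σ : Γ(CohB1.tensorPow L n, q ⁻¹ᵁ U)) :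
    ∃ s ∈ 𝒮.deg U hU n, nvU (j := j) u n s = secLocus σ := by
  choose W hW e hxW hle he using fun x : (q ⁻¹ᵁ U : X.Opens) =>
    SymInv.exists_affine_frame (L := L) hL x.1 (q ⁻¹ᵁ U) x.2
  have hc : ∀ x, ∃ c : Γ(X, W x), c • pf (e x) n = rs (CohB1.tensorPow L n) (hle x) σ := fun x => by
    obtain ⟨c, hc⟩ := (isFrame_pf (he x) n).exists_coeff le_rfl (rs (CohB1.tensorPow L n) (hle x) σ)
    exact ⟨c, by rwa [rs_self] at hc⟩
  choose c hc using hc
  have hcov : q ⁻¹ᵁ U ≤ ⨆ x, W x := fun x hx => Opens.mem_iSup.mpr ⟨⟨x, hx⟩, hxW ⟨x, hx⟩⟩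
  obtain ⟨y, hy, -⟩ := TopCat.Sheaf.existsUnique_gluing' ⟨𝒮L.presheaf, 𝒮L.isSheaf⟩ W (q ⁻¹ᵁ U)
    (fun x => homOfLE (hle x)) hcov (fun x => mon j n (c x) (e x)) fun x x' => by
      show res 𝒮L inf_le_left (mon j n (c x) (e x)) = res 𝒮L inf_le_right (mon j n (c x') (e x'))
      rw [mon_res, mon_res]
      refine mon_congr ((he x).mono _) ?_
      have h1 := congrArg (rs (CohB1.tensorPow L n) (inf_le_left : W x ⊓ W x' ≤ W x)) (hc x)
      have h2 := congrArg (rs (CohB1.tensorPow L n) (inf_le_right : W x ⊓ W x' ≤ W x')) (hc x')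
      rw [rs_smul, pf_rs, rs_rs] at h1 h2
      exact h1.trans h2.symm
  obtain ⟨s, hs, hsy⟩ := exists_deg_of_bij (hU := hU) u hu W hW hle hcov y fun x => by
    rw [show res 𝒮L _ y = mon j n (c x) (e x) from hy x]
    exact mon_mem hj (hW x) (he x) n _
  have hsW : ∀ x, au u (hle x) s = mon j n (c x) (e x) := fun x => by
    rw [← res_app u s (hle x), hsy]
    exact hy x
  refine ⟨s, hs, ?_⟩
  ext x
  by_cases hx : x ∈ q ⁻¹ᵁ U
  · have key : nvU (j := j) u n s ⊓ W ⟨x, hx⟩ = secLocus σ ⊓ W ⟨x, hx⟩ := by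
      rw [nvU_inf_eq u hL hj hPL hs (hW _) (hle _) (he _) (hsW _), secLocus_inf_eq σ (isFrame_pf (he _) n) (hle _) (hc _)]
    have := SetLike.ext_iff.1 key x
    simp only [Opens.mem_inf, hxW ⟨x, hx⟩, and_true] at this
    exact this
  · exact ⟨fun h => absurd (nvU_le u n s h) hx, fun h => absurd (secLocus_le σ h) hx⟩

omit [Coh.IsQCoh L] in
include hL in
theorem exists_finite_frames {Ω : X.Opens} (hΩ : IsCompact (Ω : Set X)) :
    ∃ (ι : Type u) (_ : Finite ι) (W : ι → X.Opens) (e : ∀ i, Γ(L, W i)),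
      (∀ i, IsAffineOpen (W i)) ∧ (∀ i, IsFrame L (W i) (e i)) ∧ (∀ i, W i ≤ Ω) ∧ Ω ≤ ⨆ i, W i := by
  choose W hW e hxW hle he using fun x : Ω => SymInv.exists_affine_frame (L := L) hL x.1 Ω x.2
  obtain ⟨t, ht⟩ := hΩ.elim_finite_subcover (fun x : Ω => (W x : Set X)) (fun x => (W x).2)
    fun x hx => Set.mem_iUnion.mpr ⟨⟨x, hx⟩, hxW ⟨x, hx⟩⟩
  refine ⟨t, inferInstance, fun i => W i.1, fun i => e i.1, fun i => hW i.1, fun i => he i.1,
    fun i => hle i.1, fun x hx => ?_⟩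
  obtain ⟨y, hy, hxy⟩ := Set.mem_iUnion₂.mp (ht hx)
  exact Opens.mem_iSup.mpr ⟨⟨y, hy⟩, hxy⟩

omit [Coh.IsQCoh L] in
theorem isAffineOpen_inf_of_separated {Ω W W' : X.Opens} [Ω.toScheme.IsSeparated] (hW : IsAffineOpen W)
    (hW' : IsAffineOpen W') (h : W ≤ Ω) (h' : W' ≤ Ω) : IsAffineOpen (W ⊓ W') := by
  have key : ∀ {O : X.Opens}, IsAffineOpen O → O ≤ Ω → IsAffineOpen (Ω.ι ⁻¹ᵁ O) := fun {O} hO hO' => by
    rw [← Scheme.Hom.isAffineOpen_iff_of_isOpenImmersion Ω.ι, Scheme.Hom.image_preimage_eq_opensRange_inf,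
      Scheme.Opens.opensRange_ι, inf_eq_right.mpr hO']
    exact hO
  have := ((key hW h).inf (key hW' h')).image_of_isOpenImmersion Ω.ι
  rwa [← Scheme.Hom.preimage_inf, Scheme.Hom.image_preimage_eq_opensRange_inf, Scheme.Opens.opensRange_ι,
    inf_eq_right.mpr (inf_le_left.trans h)] at this

include hL hj hPL in
theorem condInj (hc' : IsCompact (q ⁻¹ᵁ U : Set X)) (hu : Function.Injective (u.app U).hom) {d : ℕ}
    {s : 𝒮.presheaf.obj (op U)} (hs : s ∈ 𝒮.deg U hU d) (m : ℕ) {s' : 𝒮.presheaf.obj (op U)}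
    (hs' : s' ∈ 𝒮.deg U hU (m * d)) (h0 : au u (nvU_le (j := j) u d s) s' = 0) :
    ∃ k : ℕ, 0 < k ∧ s ^ k * s' = 0 := by
  obtain ⟨ι, hι, W, e, hW, he, hle, hcov⟩ := exists_finite_frames (L := L) hL hc'
  choose c hc using fun i => exists_coeff_au u hj hs (hW i) (hle i) (he i)
  choose a ha using fun i => exists_coeff_au u hj hs' (hW i) (hle i) (he i)
  have hk : ∀ i, ∃ k, c i ^ k * a i = 0 := fun i => by
    refine exists_pow_mul_eq_zero_of_res_basicOpen_eq_zero_of_isAffineOpen X (hW i) (a i) (c i) ?_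
    have hD : X.basicOpen (c i) ≤ nvU (j := j) u d s :=
      ((nvU_inf_eq u hL hj hPL hs (hW i) (hle i) (he i) (hc i)).ge).trans inf_le_left
    refine mon_inj (n := m * d) hj ((hW i).basicOpen (c i)) ((he i).mono (X.basicOpen_le (c i))) ?_
    rw [mon_zero]
    have e1 := au_res u (nvU_le (j := j) u d s) hD s'
    rw [h0, map_zero, ← au_res u (hle i) (X.basicOpen_le (c i)) s', ha i] at e1
    exact ((mon_res _ _ _ _).symm.trans e1.symm)
  choose k hk using hk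
  haveI := Fintype.ofFinite ι
  refine ⟨Finset.univ.sup k + 1, Nat.succ_pos _, hu ?_⟩
  rw [map_zero]
  refine ext_cover W hle hcov fun i => ?_
  rw [res_app u _ _, map_zero, map_mul, map_pow, hc i, ha i, mon_pow, mon_mul,
    show c i ^ (Finset.univ.sup k + 1) * a i = 0 from ?_, mon_zero]
  obtain ⟨r, hr⟩ := Nat.exists_eq_add_of_le ((Finset.le_sup (f := k) (Finset.mem_univ i)).trans (Nat.le_succ _))
  rw [show Finset.univ.sup k + 1 = r + k i by omega, pow_add, mul_assoc, hk i, mul_zero]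

include hL hj hPL in
theorem condSurj (hc' : IsCompact (q ⁻¹ᵁ U : Set X)) [(q ⁻¹ᵁ U).toScheme.IsSeparated]
    (hu : Function.Bijective (u.app U).hom) {d : ℕ} {s : 𝒮.presheaf.obj (op U)} (hs : s ∈ 𝒮.deg U hU d)
    (t : Γ(X, nvU (j := j) u d s)) :
    ∃ (m : ℕ) (s' : 𝒮.presheaf.obj (op U)) (_ : s' ∈ 𝒮.deg U hU (m * d)),
      (𝒮L.str.app (op (nvU (j := j) u d s))).hom t * au u (nvU_le (j := j) u d s) s ^ m =
        au u (nvU_le (j := j) u d s) s' := by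
  obtain ⟨ι, hι, W, e, hW, he, hle, hcov⟩ := exists_finite_frames (L := L) hL hc'
  haveI := Fintype.ofFinite ι
  choose c hc using fun i => exists_coeff_au u hj hs (hW i) (hle i) (he i)
  have hD : ∀ i, X.basicOpen (c i) ≤ nvU (j := j) u d s := fun i =>
    ((nvU_inf_eq u hL hj hPL hs (hW i) (hle i) (he i) (hc i)).ge).trans inf_le_left
  have hex : ∀ i, ∃ (k : ℕ) (a : Γ(X, W i)),
      ro (X.basicOpen_le (c i)) a = ro (X.basicOpen_le (c i)) (c i) ^ k * ro (hD i) t := fun i =>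
    exists_eq_pow_mul_of_isAffineOpen X (W i) (hW i) (c i) (ro (hD i) t)
  choose k a ha using hex
  let K := Finset.univ.sup k + 1
  let b : ∀ i, Γ(X, W i) := fun i => c i ^ (K - k i) * a i
  let z : ∀ i, 𝒮L.presheaf.obj (op (W i)) := fun i => mon j (d * K) (b i) (e i)
  have hzN : ∀ i, res 𝒮L (X.basicOpen_le (c i)) (z i) =
      res 𝒮L (hD i) ((𝒮L.str.app (op (nvU (j := j) u d s))).hom t * au u (nvU_le (j := j) u d s) s ^ K) := by
    intro i
    have h1 : res 𝒮L (hD i) ((𝒮L.str.app (op (nvU (j := j) u d s))).hom t) =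
        (𝒮L.str.app (op (X.basicOpen (c i)))).hom (ro (hD i) t) :=
      (ConcreteCategory.congr_hom (𝒮L.str.naturality (homOfLE (hD i)).op) t).symm
    rw [map_mul, map_pow, h1, au_res u _ (hD i) s, ← au_res u (hle i) (X.basicOpen_le (c i)) s, hc i]
    show res 𝒮L _ (mon j (d * K) (b i) (e i)) = _ * res 𝒮L _ (mon j d (c i) (e i)) ^ K
    rw [mon_res, mon_res, mon_pow]
    have hb : ro (X.basicOpen_le (c i)) (b i) = ro (hD i) t * ro (X.basicOpen_le (c i)) (c i) ^ K := by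
      rw [show b i = c i ^ (K - k i) * a i from rfl, ro_mul', ha i]
      rw [show ro (X.basicOpen_le (c i)) (c i ^ (K - k i)) = ro (X.basicOpen_le (c i)) (c i) ^ (K - k i) from map_pow _ _ _,
        ← mul_assoc, ← pow_add, Nat.sub_add_cancel
          ((Finset.le_sup (f := k) (Finset.mem_univ i)).trans (Nat.le_succ _)), mul_comm]
    rw [mon, mon, hb, map_mul, mul_assoc]
  have hM : ∀ p : ι × ι, ∃ M : ℕ, res 𝒮L (inf_le_left : W p.1 ⊓ W p.2 ≤ W p.1) (z p.1 * au u (hle p.1) s ^ M) =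
      res 𝒮L (inf_le_right : W p.1 ⊓ W p.2 ≤ W p.2) (z p.2 * au u (hle p.2) s ^ M) := by
    rintro ⟨i, i'⟩
    dsimp only
    set V := W i ⊓ W i'
    have hV : IsAffineOpen V := isAffineOpen_inf_of_separated (hW i) (hW i') (hle i) (hle i')
    have heV : IsFrame L V (rs L inf_le_left (e i)) := (he i).mono inf_le_left
    have hVle : V ≤ q ⁻¹ᵁ U := inf_le_left.trans (hle i)
    obtain ⟨c₀, hc₀⟩ := exists_coeff_au u hj hs hV hVle heV
    have hz : ∀ m (h : V ≤ W m), ∃ β : Γ(X, V), res 𝒮L h (z m) = mon j (d * K) β (rs L inf_le_left (e i)) := fun m h =>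
      (SymInv.mem_deg_iff hj hV heV (d * K) _).mp ((SymInv.mem_deg_iff hj hV ((he m).mono h) (d * K) _).mpr
        ⟨_, mon_res h _ _ _⟩)
    obtain ⟨β, hβ⟩ := hz i inf_le_left
    obtain ⟨β', hβ'⟩ := hz i' inf_le_right
    have hVN : X.basicOpen c₀ ≤ nvU (j := j) u d s :=
      ((nvU_inf_eq u hL hj hPL hs hV hVle heV hc₀).ge).trans inf_le_left
    have hres : ∀ m (h : V ≤ W m), res 𝒮L ((X.basicOpen_le c₀).trans h) (z m) =
        res 𝒮L hVN ((𝒮L.str.app (op (nvU (j := j) u d s))).hom t * au u (nvU_le (j := j) u d s) s ^ K) := fun m h => by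
      have hle2 : X.basicOpen c₀ ≤ X.basicOpen (c m) :=
        (le_inf hVN ((X.basicOpen_le c₀).trans h)).trans_eq (nvU_inf_eq u hL hj hPL hs (hW m) (hle m) (he m) (hc m))
      rw [← res_res (X.basicOpen_le (c m)) hle2, hzN m, res_res]
    have h0 : ro (X.basicOpen_le c₀) (β - β') = 0 := by
      refine mon_inj (n := d * K) hj (hV.basicOpen c₀) (heV.mono (X.basicOpen_le c₀)) ?_
      have e1 := hres i inf_le_left
      have e2 := hres i' inf_le_right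
      rw [← res_res (inf_le_left : V ≤ W i) (X.basicOpen_le c₀), hβ, mon_res] at e1
      rw [← res_res (inf_le_right : V ≤ W i') (X.basicOpen_le c₀), hβ', mon_res] at e2
      rw [mon_zero, show ro (X.basicOpen_le c₀) (β - β') = ro (X.basicOpen_le c₀) β - ro (X.basicOpen_le c₀) β' from
        map_sub _ _ _]
      show (𝒮L.str.app (op (X.basicOpen c₀))).hom _ * _ = 0
      rw [map_sub, sub_mul]
      exact sub_eq_zero.mpr (e1.trans e2.symm)
    obtain ⟨M, hM⟩ := exists_pow_mul_eq_zero_of_res_basicOpen_eq_zero_of_isAffineOpen X hV (β - β') c₀ h0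
    refine ⟨M, ?_⟩
    rw [map_mul, map_mul, map_pow, map_pow, au_res, au_res, hβ, hβ', hc₀, mon_pow, mon_mul, mon_mul]
    rw [mul_sub, sub_eq_zero, mul_comm, mul_comm _ β'] at hM
    rw [hM]
  choose M hM using hM
  let M₀ := Finset.univ.sup M
  have hglue : ∀ i i', res 𝒮L (inf_le_left : W i ⊓ W i' ≤ W i) (z i * au u (hle i) s ^ M₀) =
      res 𝒮L (inf_le_right : W i ⊓ W i' ≤ W i') (z i' * au u (hle i') s ^ M₀) := fun i i' => by
    obtain ⟨r, hr⟩ := Nat.exists_eq_add_of_le (Finset.le_sup (f := M) (Finset.mem_univ (i, i')))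
    rw [show M₀ = M (i, i') + r from hr, pow_add, pow_add, ← mul_assoc, ← mul_assoc]
    refine (map_mul _ _ _).trans ((congrArg₂ (· * ·) (hM (i, i')) ?_).trans (map_mul _ _ _).symm)
    rw [map_pow, map_pow, au_res, au_res]
  obtain ⟨y, hy, -⟩ := TopCat.Sheaf.existsUnique_gluing' ⟨𝒮L.presheaf, 𝒮L.isSheaf⟩ W (q ⁻¹ᵁ U)
    (fun i => homOfLE (hle i)) hcov (fun i => z i * au u (hle i) s ^ M₀) hglue
  obtain ⟨s', hs', hsy⟩ := exists_deg_of_bij (hU := hU) (d := (K + M₀) * d) u hu W hW hle hcov y fun i => by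
    rw [show res 𝒮L _ y = z i * au u (hle i) s ^ M₀ from hy i, hc i, mon_pow]
    show mon j _ _ _ * _ ∈ _
    rw [mon_mul, show d * K + d * M₀ = (K + M₀) * d by ring]
    exact mon_mem hj (hW i) (he i) _ _
  refine ⟨K + M₀, s', hs', ?_⟩
  refine ext_cover (fun i => X.basicOpen (c i)) hD (fun x hx => ?_) fun i => ?_
  · obtain ⟨i, hi⟩ := Opens.mem_iSup.mp (hcov (nvU_le (j := j) u d s hx))
    exact Opens.mem_iSup.mpr ⟨i, (nvU_inf_eq u hL hj hPL hs (hW i) (hle i) (he i) (hc i)).le ⟨hx, hi⟩⟩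
  · rw [pow_add, ← mul_assoc, map_mul, ← hzN i, map_pow, au_res, au_res,
      ← au_res u (hle i) (X.basicOpen_le (c i)) s, ← au_res u (hle i) (X.basicOpen_le (c i)) s',
      ← res_app u s' (hle i), hsy, show res 𝒮L _ y = z i * au u (hle i) s ^ M₀ from hy i, map_mul, map_pow]

include hL hj hPL in
theorem exists_affine_cover (hA : CohB1.IsAmple (L.restrict (q ⁻¹ᵁ U).ι)) (hu : Function.Bijective (u.app U).hom)
    {x : X} (hx : x ∈ q ⁻¹ᵁ U) :
    ∃ (d : ℕ) (_ : 0 < d) (s : 𝒮.presheaf.obj (op U)) (_ : s ∈ 𝒮.deg U hU d),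
      x ∈ nvU (j := j) u d s ∧ IsAffineOpen (nvU (j := j) u d s) := by
  obtain ⟨n, σ, hxσ, haff⟩ := Contract.exists_sec_of_isAmple hA hx
  obtain ⟨s, hs, hnv⟩ := exists_elem_of_sec u hL hj hPL (hU := hU) hu σ
  exact ⟨n + 1, n.succ_pos, s, hs, hnv ▸ hxσ, hnv ▸ haff⟩

end Groth.L16.LPsiRel
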