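import Groth.Agent.L16.LPsiAmple.RelMain

/-!
# Relative ampleness from the morphism to the relative `Proj`
-/

set_option autoImplicit false
set_option linter.style.haveILetI false

noncomputable section

universe u

open CategoryTheory CategoryTheory.Limits AlgebraicGeometry TopologicalSpace Opposite HomogeneousLocalization
open Groth.L18
open Groth.L18.Frame (rs ro rs_rs rs_self rs_smul ro_ro ro_self IsFrame)
open Groth.L18.NormDesc (pf pf_rs pf_smul isFrame_pf)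
open Groth.L18.Contract (secLocus secLocus_le secLocus_inf_eq mem_secLocus)
open Groth.L16.LPsiAmple (res res_res mon mon_res mon_mul mon_pow mon_zero mon_inj mon_mem mon_congr ext_cover)

namespace Groth.L16.LPsiRel

variable {Y X P PL : Scheme.{u}} {q : X ⟶ Y} {L : X.Modules} {𝒮 : RelProj.QCGrAlg Y} {𝒮L : RelProj.QCGrAlg X}
  {j : L ⟶ 𝒮L.toModule} (u : RelProj.QGrHom q 𝒮 𝒮L) {U : Y.Opens} {hU : IsAffineOpen U}
  [Coh.IsQCoh L] (hL : PicF.IsInvertible L) (hj : RelProj.IsGrSymAlg L 𝒮L j)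
  {p : P ⟶ Y} {chart : ∀ (U : Y.Opens) (hU : IsAffineOpen U), (((p ⁻¹ᵁ U : P.Opens) : Scheme.{u}) ≅ Proj (𝒮.deg U hU))}
  (hP : RelProj.IsRelProj 𝒮 p chart)
  {pL : PL ⟶ X} {chartL : ∀ (U : X.Opens) (hU : IsAffineOpen U), (((pL ⁻¹ᵁ U : PL.Opens) : Scheme.{u}) ≅ Proj (𝒮L.deg U hU))}
  (hPL : RelProj.IsRelProj 𝒮L pL chartL)

include hL hj hPL in
/-- A homogeneous element over `U` gives a section of the power over `q⁻¹(U)` with the same locus. -/
theorem exists_sec_of_elem {d : ℕ} {s : 𝒮.presheaf.obj (op U)} (hs : s ∈ 𝒮.deg U hU d) :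
    ∃ σ : Γ(CohB1.tensorPow L d, q ⁻¹ᵁ U), secLocus σ = nvU (j := j) u d s := by
  choose W hW e hxW hle he using fun x : (q ⁻¹ᵁ U : X.Opens) =>
    SymInv.exists_affine_frame (L := L) hL x.1 (q ⁻¹ᵁ U) x.2
  choose c hc using fun x => exists_coeff_au u hj hs (hW x) (hle x) (he x)
  let F : TopCat.Sheaf Ab X.toTopCat := ⟨(CohB1.tensorPow L d).presheaf, (CohB1.tensorPow L d).isSheaf⟩
  obtain ⟨σ, hσ, -⟩ := TopCat.Sheaf.existsUnique_gluing' F W (q ⁻¹ᵁ U) (fun x => homOfLE (hle x))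
    (fun x hx => Opens.mem_iSup.2 ⟨⟨x, hx⟩, hxW ⟨x, hx⟩⟩) (fun x => c x • pf (e x) d) fun k l => by
      show rs (CohB1.tensorPow L d) (inf_le_left : W k ⊓ W l ≤ _) _ =
        rs (CohB1.tensorPow L d) (inf_le_right : W k ⊓ W l ≤ _) _
      refine TopCat.Sheaf.eq_of_locally_eq' F (fun m : {m : X.affineOpens // (m.1 : X.Opens) ≤ W k ⊓ W l} =>
        (m.1.1 : X.Opens)) _ (fun m => homOfLE m.2) (fun x hx => ?_) _ _ fun m => ?_
      · obtain ⟨O, hO, hxO, hOkl⟩ := exists_isAffineOpen_mem_and_subset hx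
        exact Opens.mem_iSup.2 ⟨⟨⟨O, hO⟩, hOkl⟩, hxO⟩
      · show rs (CohB1.tensorPow L d) m.2 (rs _ _ _) = rs (CohB1.tensorPow L d) m.2 (rs _ _ _)
        rw [rs_rs, rs_rs]
        have hk : (m.1.1 : X.Opens) ≤ W k := m.2.trans inf_le_left
        have hl : (m.1.1 : X.Opens) ≤ W l := m.2.trans inf_le_right
        show rs (CohB1.tensorPow L d) hk (c k • pf (e k) d) = rs (CohB1.tensorPow L d) hl (c l • pf (e l) d)
        rw [rs_smul, rs_smul, pf_rs, pf_rs]
        have h1 : mon j d (ro hk (c k)) (rs L hk (e k)) = mon j d (ro hl (c l)) (rs L hl (e l)) := by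
          rw [← mon_res, ← mon_res, ← hc k, ← hc l, au_res, au_res]
        obtain ⟨a, ha⟩ := ((he k).mono hk).exists_coeff le_rfl (rs L hl (e l))
        rw [rs_self] at ha
        rw [← ha] at h1 ⊢
        have h2 : SymInv.gen j (a • rs L hk (e k)) =
            (𝒮L.str.app (op (m.1.1 : X.Opens))).hom a * SymInv.gen j (rs L hk (e k)) :=
          Scheme.Modules.Hom.app_smul j a _
        have h3 : ro hk (c k) = ro hl (c l) * a ^ d := by
          refine mon_inj (n := d) hj m.1.2 ((he k).mono hk) (h1.trans ?_)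
          rw [mon, mon, h2, mul_pow, map_mul, map_pow, mul_assoc]
        rw [pf_smul, ← mul_smul, h3]
  refine ⟨σ, ?_⟩
  ext x
  by_cases hx : x ∈ q ⁻¹ᵁ U
  · have key : secLocus σ ⊓ W ⟨x, hx⟩ = nvU (j := j) u d s ⊓ W ⟨x, hx⟩ := by
      rw [nvU_inf_eq u hL hj hPL hs (hW _) (hle _) (he _) (hc ⟨x, hx⟩)]
      exact secLocus_inf_eq σ (isFrame_pf (he _) d) (hle _) (hσ ⟨x, hx⟩).symm
    have := SetLike.ext_iff.1 key x
    simp only [Opens.mem_inf, hxW ⟨x, hx⟩, and_true] at this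
    exact this
  · exact ⟨fun h => absurd (secLocus_le σ h) hx, fun h => absurd (nvU_le u d s h) hx⟩

variable {r : ((RelProj.domQ u pL chartL : PL.Opens) : Scheme.{u}) ⟶ P}
  (hr : RelProj.IsProjQMapOn u p chart pL chartL (RelProj.domQ u pL chartL) r)

include hL hj hP hPL hr

omit hU U in
/-- If every point of `X` has a standard chart of `P` around its image whose preimage lies in an affine open
over the base, then `L` is relatively ample. -/
theorem isRelAmple_of_charts [QuasiCompact q] (htop : RelProj.domQ u pL chartL = ⊤)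
    (h : ∀ (U : Y.Opens) (hU : IsAffineOpen U) (x : ((RelProj.domQ u pL chartL : PL.Opens) : Scheme.{u})),
      pL.base x.1 ∈ q ⁻¹ᵁ U → ∃ (d : ℕ) (hd : 0 < d) (s : 𝒮.presheaf.obj (op U)) (hs : s ∈ 𝒮.deg U hU d)
        (V : X.Opens), IsAffineOpen V ∧ V ≤ q ⁻¹ᵁ U ∧
        r.base x ∈ Set.range (QMap.aEmb p chart U hU hd s hs).base ∧ nvU (j := j) u d s ≤ V) :
    RelAmple.IsRelAmple q L := by
  refine ⟨inferInstance, fun ⟨U, hU⟩ => Contract.isAmple_of_secs hL (q.isCompact_preimage hU.isCompact) fun x hx => ?_⟩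
  haveI := SymInv.isIso_relProj hj hL hPL
  obtain ⟨ξ, rfl⟩ : ∃ ξ, pL.base ξ = x :=
    ⟨(inv pL).base x, by rw [← Scheme.Hom.comp_apply, IsIso.inv_hom_id]; rfl⟩
  obtain ⟨d, hd, s, hs, V, hV, hVU, hxs, hle⟩ := h U hU ⟨ξ, htop.ge trivial⟩ hx
  obtain ⟨n, rfl⟩ : ∃ n, d = n + 1 := ⟨d - 1, by omega⟩
  obtain ⟨σ, hσ⟩ := exists_sec_of_elem u hL hj hPL hs
  exact ⟨n, σ, V, hV, hVU, hσ ▸ (mem_preimage_chart_iff u hL hj hP hPL hr hd hs ⟨ξ, htop.ge trivial⟩).mp hxs,
    hσ.trans_le hle⟩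

omit hU U in
theorem base_mem {U : Y.Opens} {x : ((RelProj.domQ u pL chartL : PL.Opens) : Scheme.{u})}
    (hx : pL.base x.1 ∈ q ⁻¹ᵁ U) : p.base (r.base x) ∈ U := by
  have e : (r ≫ p).base x = ((RelProj.domQ u pL chartL).ι ≫ pL ≫ q).base x := by
    rw [QMap.comp_base u hP hPL hr]
  simp only [Scheme.Hom.comp_apply] at e
  rw [e]
  exact hx

omit hU U in
theorem isRelAmple_of_isImmersion [QuasiCompact q] (htop : RelProj.domQ u pL chartL = ⊤) [IsImmersion r] :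
    RelAmple.IsRelAmple q L := by
  refine isRelAmple_of_charts u hL hj hP hPL hr htop fun U hU x hx => ?_
  obtain ⟨v, hv⟩ := QMap.exists_point (chart := chart) U hU _ (base_mem u hL hj hP hPL hr hx)
  have hmem : (RelProj.emb p chart U hU).base v ∈ r.coborderRange := hv ▸ subset_coborder ⟨x, rfl⟩
  obtain ⟨d, hd, s, hs, hvs, hsub⟩ :=
    LPsi.exists_basicOpen_le (r.coborderRange.2.preimage (RelProj.emb p chart U hU).continuous) hmem
  have hle : (QMap.aEmb p chart U hU hd s hs).opensRange ≤ r.coborderRange := by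
    rintro _ ⟨w, rfl⟩
    exact hsub ((Proj.opensRange_awayι (𝒮.deg U hU) s hs hd).le ⟨w, rfl⟩)
  obtain ⟨T, g, hpb, hT⟩ := exists_restrict u hL hj hP hPL hr hd hs
  haveI := LPsi.isClosedImmersion_of_isImmersion hpb hle
  exact ⟨d, hd, s, hs, _, LPsi.isAffineOpen_of g, nvU_le u d s,
    hv ▸ (QMap.mem_range_aEmb (p := p) (chart := chart) U hU hd s hs v).mpr hvs, le_rfl⟩

omit hU U in
theorem isRelAmple_of_isEmbedding [QuasiCompact q] (htop : RelProj.domQ u pL chartL = ⊤)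
    (hemb : Topology.IsEmbedding r.base) : RelAmple.IsRelAmple q L := by
  refine isRelAmple_of_charts u hL hj hP hPL hr htop fun U hU x hx => ?_
  obtain ⟨W, hW, hxW, hWU⟩ := exists_isAffineOpen_mem_and_subset (x := pL.base x.1) (U := q ⁻¹ᵁ U) hx
  obtain ⟨O, hO, hOW⟩ := hemb.isInducing.isOpen_iff.mp
    (W.2.preimage ((RelProj.domQ u pL chartL).ι ≫ pL).continuous)
  obtain ⟨v, hv⟩ := QMap.exists_point (chart := chart) U hU _ (base_mem u hL hj hP hPL hr hx)
  have hmem : (RelProj.emb p chart U hU).base v ∈ O := hv ▸ hOW.ge hxW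
  obtain ⟨d, hd, s, hs, hvs, hsub⟩ :=
    LPsi.exists_basicOpen_le (hO.preimage (RelProj.emb p chart U hU).continuous) hmem
  refine ⟨d, hd, s, hs, W, hW, hWU, hv ▸ (QMap.mem_range_aEmb (p := p) (chart := chart) U hU hd s hs v).mpr hvs,
    fun y hy => ?_⟩
  haveI := SymInv.isIso_relProj hj hL hPL
  obtain ⟨ξ, rfl⟩ : ∃ ξ, pL.base ξ = y :=
    ⟨(inv pL).base y, by rw [← Scheme.Hom.comp_apply, IsIso.inv_hom_id]; rfl⟩
  obtain ⟨w, hw⟩ := (mem_preimage_chart_iff u hL hj hP hPL hr hd hs ⟨ξ, htop.ge trivial⟩).mpr hy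
  exact hOW.le (show r.base ⟨ξ, htop.ge trivial⟩ ∈ O from
    hw ▸ hsub ((Proj.opensRange_awayι (𝒮.deg U hU) s hs hd).le ⟨w, rfl⟩))

end Groth.L16.LPsiRel
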