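import Groth.Agent.L16.LPsiAmple.Rel
import Groth.Agent.L18.LPsi.ImmersionCrit
import Groth.Agent.L18.RelProj.Props
import Mathlib.AlgebraicGeometry.Morphisms.Proper

/-!
# The morphism to the relative `Proj` of the section algebra of a relatively ample module
-/

set_option autoImplicit false
set_option linter.style.haveILetI false

noncomputable section

universe u

open CategoryTheory CategoryTheory.Limits AlgebraicGeometry TopologicalSpace Opposite HomogeneousLocalization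
open Groth.L18
open Groth.L18.Frame (rs ro rs_rs rs_self rs_smul ro_ro ro_self IsFrame)
open Groth.L18.LPsi (toRingMap)
open Groth.L16.LPsiAmple (res res_res mon mon_res mon_mul mon_pow mon_zero mon_inj mon_mem mon_congr ext_cover)

namespace Groth.L16.LPsiRel

variable {Y X P PL : Scheme.{u}} {q : X ⟶ Y} {L : X.Modules} {𝒮 : RelProj.QCGrAlg Y} {𝒮L : RelProj.QCGrAlg X}
  {j : L ⟶ 𝒮L.toModule} (u : RelProj.QGrHom q 𝒮 𝒮L) {U : Y.Opens} {hU : IsAffineOpen U}
  [Coh.IsQCoh L] (hL : PicF.IsInvertible L) (hj : RelProj.IsGrSymAlg L 𝒮L j)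
  {p : P ⟶ Y} {chart : ∀ (U : Y.Opens) (hU : IsAffineOpen U), (((p ⁻¹ᵁ U : P.Opens) : Scheme.{u}) ≅ Proj (𝒮.deg U hU))}
  (hP : RelProj.IsRelProj 𝒮 p chart)
  {pL : PL ⟶ X} {chartL : ∀ (U : X.Opens) (hU : IsAffineOpen U), (((pL ⁻¹ᵁ U : PL.Opens) : Scheme.{u}) ≅ Proj (𝒮L.deg U hU))}
  (hPL : RelProj.IsRelProj 𝒮L pL chartL)

include hL hj hPL in
theorem unit_coeff {d : ℕ} {s : 𝒮.presheaf.obj (op U)} (hs : s ∈ 𝒮.deg U hU d) {V : X.Opens}
    (hV : IsAffineOpen V) (h : V ≤ nvU (j := j) u d s) {e : Γ(L, V)} (he : IsFrame L V e) :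
    ∃ c : Γ(X, V), IsUnit c ∧ au u (h.trans (nvU_le u d s)) s = mon j d c e := by
  obtain ⟨c, hc⟩ := exists_coeff_au u hj hs hV (h.trans (nvU_le u d s)) he
  refine ⟨c, ?_, hc⟩
  refine X.toRingedSpace.isUnit_of_isUnit_germ V c fun x hx => (X.mem_basicOpen c x hx).mp ?_
  exact (nvU_inf_eq u hL hj hPL hs hV (h.trans (nvU_le u d s)) he hc).le ⟨h hx, hx⟩

include hL hj hPL in
theorem eq_zero_of_mul_pow {d : ℕ} {s : 𝒮.presheaf.obj (op U)} (hs : s ∈ 𝒮.deg U hU d) {V : X.Opens}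
    (hV : IsAffineOpen V) (h : V ≤ nvU (j := j) u d s) {e : Γ(L, V)} (he : IsFrame L V e) {m : ℕ} {a : Γ(X, V)}
    (ha : (𝒮L.str.app (op V)).hom a * au u (h.trans (nvU_le u d s)) s ^ m = 0) : a = 0 := by
  obtain ⟨c, hcu, hc⟩ := unit_coeff u hL hj hPL hs hV h he
  refine (IsUnit.mul_left_eq_zero (hcu.pow m)).mp (SymInv.coeff_eq_zero hj hV he (d * m) ?_)
  rw [← ha, hc, mon, mul_pow, map_mul, map_pow, ← pow_mul, mul_assoc]

include hL hj hPL in
theorem fun_ext {d : ℕ} {s : 𝒮.presheaf.obj (op U)} (hs : s ∈ 𝒮.deg U hU d) {m : ℕ}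
    {t t' : Γ(X, nvU (j := j) u d s)}
    (h : (𝒮L.str.app (op (nvU (j := j) u d s))).hom t * au u (nvU_le (j := j) u d s) s ^ m =
      (𝒮L.str.app (op (nvU (j := j) u d s))).hom t' * au u (nvU_le (j := j) u d s) s ^ m) : t = t' := by
  rw [← sub_eq_zero]
  refine TopCat.Sheaf.eq_of_locally_eq' X.sheaf
    (fun W : {W : X.Opens // IsAffineOpen W ∧ W ≤ nvU (j := j) u d s ∧ ∃ e : Γ(L, W), IsFrame L W e} => W.1)
    (nvU (j := j) u d s) (fun W => homOfLE W.2.2.1) ?_ _ _ ?_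
  · intro x hx
    obtain ⟨W, hW, e, hxW, hWN, he⟩ := SymInv.exists_affine_frame (L := L) hL x _ hx
    exact Opens.mem_iSup.mpr ⟨⟨W, hW, hWN, e, he⟩, hxW⟩
  · rintro ⟨W, hW, hWN, e, he⟩
    have h' := congrArg (res 𝒮L hWN) h
    rw [map_mul, map_mul, map_pow, au_res u _ hWN s] at h'
    have nat : ∀ z, res 𝒮L hWN ((𝒮L.str.app (op (nvU (j := j) u d s))).hom z) =
        (𝒮L.str.app (op W)).hom ((X.presheaf.map (homOfLE hWN).op).hom z) := fun z =>
      (ConcreteCategory.congr_hom (𝒮L.str.naturality (homOfLE hWN).op) z).symm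
    rw [nat, nat] at h'
    show (X.presheaf.map (homOfLE hWN).op).hom (t - t') = (X.presheaf.map (homOfLE hWN).op).hom 0
    rw [map_zero]
    refine eq_zero_of_mul_pow u hL hj hPL hs hW hWN he (m := m) ?_
    rw [map_sub, map_sub, sub_mul, h', sub_self]

include hL hj hPL in
theorem preimage_nvU_le_domQ {d : ℕ} (hd : 0 < d) {s : 𝒮.presheaf.obj (op U)} (hs : s ∈ 𝒮.deg U hU d) :
    pL ⁻¹ᵁ nvU (j := j) u d s ≤ RelProj.domQ u pL chartL := by
  intro ξ hξ
  obtain ⟨V, hV, hxV, hle⟩ := exists_isAffineOpen_mem_and_subset (x := pL.base ξ) (U := q ⁻¹ᵁ U)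
    (nvU_le u d s hξ)
  obtain ⟨v, rfl⟩ := QMap.exists_point (chart := chartL) V hV ξ hxV
  exact Opens.mem_iSup.mpr ⟨⟨(⟨U, hU⟩, ⟨V, hV⟩), hle⟩, v,
    (RelCone.mem_domOpen _ _).mpr ⟨s, HomogeneousIdeal.mem_irrelevant_of_mem _ hd hs,
      (emb_mem_nvU_iff u hL hj hPL hs hV hle v).mp hξ⟩, rfl⟩

variable {r : ((RelProj.domQ u pL chartL : PL.Opens) : Scheme.{u}) ⟶ P}
  (hr : RelProj.IsProjQMapOn u p chart pL chartL (RelProj.domQ u pL chartL) r)

include hL hj hP hPL hr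

theorem mem_preimage_chart_iff {d : ℕ} (hd : 0 < d) {s : 𝒮.presheaf.obj (op U)} (hs : s ∈ 𝒮.deg U hU d)
    (x : ((RelProj.domQ u pL chartL : PL.Opens) : Scheme.{u})) :
    r.base x ∈ Set.range (QMap.aEmb p chart U hU hd s hs).base ↔ pL.base x.1 ∈ nvU (j := j) u d s := by
  have key : ∀ h : pL.base x.1 ∈ q ⁻¹ᵁ U,
      r.base x ∈ Set.range (QMap.aEmb p chart U hU hd s hs).base ↔ pL.base x.1 ∈ nvU (j := j) u d s := fun h => by
    obtain ⟨V, hV, hxV, hle⟩ := exists_isAffineOpen_mem_and_subset (x := pL.base x.1) (U := q ⁻¹ᵁ U) h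
    obtain ⟨v, hv⟩ := QMap.exists_point (chart := chartL) V hV x.1 hxV
    rw [QMap.mem_preimage_iff u hP hPL hr x hU hV hle v hv hd s hs, ← hv,
      emb_mem_nvU_iff u hL hj hPL hs hV hle v]
    rfl
  refine ⟨fun h => (key ?_).mp h, fun h => (key (nvU_le u d s h)).mpr h⟩
  obtain ⟨w, hw⟩ := h
  show q.base (pL.base x.1) ∈ U
  have e : (r ≫ p).base x = ((RelProj.domQ u pL chartL).ι ≫ pL ≫ q).base x := by
    rw [QMap.comp_base u hP hPL hr]
  simp only [Scheme.Hom.comp_apply] at e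
  have e2 : p.base (r.base x) ∈ U := by
    rw [← hw, QMap.aEmb, Scheme.Hom.comp_apply]
    exact QMap.π_emb_mem U hU _
  exact e ▸ e2

theorem exists_restrict {d : ℕ} (hd : 0 < d) {s : 𝒮.presheaf.obj (op U)} (hs : s ∈ 𝒮.deg U hU d) :
    ∃ (T : (nvU (j := j) u d s : Scheme.{u}) ⟶ ((RelProj.domQ u pL chartL : PL.Opens) : Scheme.{u}))
      (g : (nvU (j := j) u d s : Scheme.{u}) ⟶ Spec (CommRingCat.of (Away (𝒮.deg U hU) s))),
      IsPullback T g r (QMap.aEmb p chart U hU hd s hs) ∧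
      T ≫ (RelProj.domQ u pL chartL).ι ≫ pL = (nvU (j := j) u d s).ι := by
  haveI := SymInv.isIso_relProj hj hL hPL
  have hsub : Set.range ((nvU (j := j) u d s).ι ≫ inv pL).base ⊆ Set.range (RelProj.domQ u pL chartL).ι.base := by
    rw [Scheme.Opens.range_ι]
    rintro _ ⟨x, rfl⟩
    refine preimage_nvU_le_domQ u hL hj hPL hd hs ?_
    show pL.base (((nvU (j := j) u d s).ι ≫ inv pL).base x) ∈ nvU (j := j) u d s
    rw [← Scheme.Hom.comp_apply, Category.assoc, IsIso.inv_hom_id, Category.comp_id]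
    exact x.2
  let T := IsOpenImmersion.lift (RelProj.domQ u pL chartL).ι ((nvU (j := j) u d s).ι ≫ inv pL) hsub
  have hT : T ≫ (RelProj.domQ u pL chartL).ι ≫ pL = (nvU (j := j) u d s).ι := by
    rw [IsOpenImmersion.lift_fac_assoc, Category.assoc, IsIso.inv_hom_id, Category.comp_id]
  haveI : IsOpenImmersion (T ≫ (RelProj.domQ u pL chartL).ι) := by
    rw [IsOpenImmersion.lift_fac]; infer_instance
  haveI : IsOpenImmersion T := IsOpenImmersion.of_comp T (RelProj.domQ u pL chartL).ι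
  have hrange : ∀ y, y ∈ Set.range T.base ↔ r.base y ∈ Set.range (QMap.aEmb p chart U hU hd s hs).base := by
    intro y
    rw [mem_preimage_chart_iff u hL hj hP hPL hr hd hs]
    constructor
    · rintro ⟨x, rfl⟩
      have : (T ≫ (RelProj.domQ u pL chartL).ι ≫ pL).base x = (nvU (j := j) u d s).ι.base x := by rw [hT]
      simp only [Scheme.Hom.comp_apply] at this
      show pL.base ((RelProj.domQ u pL chartL).ι.base (T.base x)) ∈ nvU (j := j) u d s
      rw [this]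
      exact x.2
    · intro hy
      refine ⟨⟨pL.base y.1, hy⟩, ((RelProj.domQ u pL chartL).ι ≫ pL).isOpenEmbedding.injective ?_⟩
      rw [← Scheme.Hom.comp_apply T, hT]
      rfl
  have hTr : Set.range (T ≫ r).base ⊆ Set.range (QMap.aEmb p chart U hU hd s hs).base := by
    rintro _ ⟨x, rfl⟩
    exact (hrange _).mp ⟨x, rfl⟩
  let g := IsOpenImmersion.lift (QMap.aEmb p chart U hU hd s hs) (T ≫ r) hTr
  refine ⟨T, g, IsPullback.flip (IsOpenImmersion.isPullback g T _ r ?_ ?_), hT⟩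
  · exact (IsOpenImmersion.lift_fac _ _ _).symm
  · ext y
    exact (hrange y).symm

theorem toRingMap_spec {d : ℕ} (hd : 0 < d) {s : 𝒮.presheaf.obj (op U)} (hs : s ∈ 𝒮.deg U hU d)
    {T : (nvU (j := j) u d s : Scheme.{u}) ⟶ ((RelProj.domQ u pL chartL : PL.Opens) : Scheme.{u})}
    {g : (nvU (j := j) u d s : Scheme.{u}) ⟶ Spec (CommRingCat.of (Away (𝒮.deg U hU) s))}
    (hg : T ≫ r = g ≫ QMap.aEmb p chart U hU hd s hs)
    (hT : T ≫ (RelProj.domQ u pL chartL).ι ≫ pL = (nvU (j := j) u d s).ι)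
    (m : ℕ) (s' : 𝒮.presheaf.obj (op U)) (hs' : s' ∈ 𝒮.deg U hU (m • d)) :
    (𝒮L.str.app (op (nvU (j := j) u d s))).hom ((toRingMap g).hom (Away.mk (𝒮.deg U hU) hs m s' hs')) *
      au u (nvU_le (j := j) u d s) s ^ m = au u (nvU_le (j := j) u d s) s' := by
  haveI := SymInv.isIso_relProj hj hL hPL
  refine ext_cover (fun W : {W : X.Opens // IsAffineOpen W ∧ W ≤ nvU (j := j) u d s ∧ ∃ e : Γ(L, W), IsFrame L W e} => W.1)
    (fun W => W.2.2.1) (fun x hx => ?_) ?_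
  · obtain ⟨W, hW, e, hxW, hWN, he⟩ := SymInv.exists_affine_frame (L := L) hL x _ hx
    exact Opens.mem_iSup.mpr ⟨⟨W, hW, hWN, e, he⟩, hxW⟩
  rintro ⟨V, hV, hVN, e, he⟩
  rw [map_mul, map_pow, au_res, au_res]
  show (𝒮L.presheaf.map (homOfLE hVN).op).hom _ * _ = _
  rw [← ConcreteCategory.comp_apply, ← 𝒮L.str.naturality (homOfLE hVN).op, ConcreteCategory.comp_apply]
  set z := Away.mk (𝒮.deg U hU) hs m s' hs'
  set a := (X.presheaf.map (homOfLE hVN).op).hom ((toRingMap g).hom z) with ha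
  have hle : V ≤ q ⁻¹ᵁ U := hVN.trans (nvU_le u d s)
  show (𝒮L.str.app (op V)).hom a * au u hle s ^ m = au u hle s'
  let ψ := u.gradedAt U hU V hV hle
  let β : Γ(X, V) ⟶ CommRingCat.of (Away (𝒮L.deg V hV) (ψ s)) :=
    𝒮L.strZero V hV ≫ CommRingCat.ofHom (fromZeroRingHom (𝒮L.deg V hV) (Submonoid.powers (ψ s)))
  have h1 : RelProj.awayEmb u pL chartL U hU V hV hle hd s hs ≫ pL = Spec.map β ≫ hV.fromSpec := by
    have hl : (chartL V hV).inv ≫ (pL ⁻¹ᵁ V).ι ≫ pL =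
        Proj.toSpecZero (𝒮L.deg V hV) ≫ Spec.map (𝒮L.strZero V hV) ≫ hV.fromSpec :=
      (RP.chart_ι_comp hPL V hV).trans (RP.projBase_ι 𝒮L V hV)
    simp only [RelProj.awayEmb, RelProj.emb, Category.assoc, hl, Proj.awayι_toSpecZero_assoc, β, Spec.map_comp]
  have h2 : IsOpenImmersion.lift (RelProj.domQ u pL chartL).ι (RelProj.awayEmb u pL chartL U hU V hV hle hd s hs)
      (RelProj.range_awayEmb_subset_domQ u pL chartL U hU V hV hle hd s hs) =
      (Spec.map β ≫ hV.isoSpec.inv ≫ X.homOfLE hVN) ≫ T := by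
    rw [← cancel_mono ((RelProj.domQ u pL chartL).ι ≫ pL), IsOpenImmersion.lift_fac_assoc, h1]
    simp only [Category.assoc, hT, Scheme.homOfLE_ι, IsAffineOpen.isoSpec_inv_ι]
  have h3 : Spec.map (toRingMap g ≫ X.presheaf.map (homOfLE hVN).op ≫ β) =
      Spec.map (CommRingCat.ofHom (Away.map ψ s)) := by
    rw [← cancel_mono (QMap.aEmb p chart U hU hd s hs)]
    refine Eq.trans ?_ (hr U hU V hV hle d hd s hs
      (RelProj.range_awayEmb_subset_domQ u pL chartL U hU V hV hle hd s hs))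
    rw [h2, ← Category.assoc (toRingMap g), Spec.map_comp, ← LPsi.lift_comp_eq_SpecMap g hV hVN]
    simp only [Category.assoc, hg]
  have h4 : β.hom a = Away.map ψ s z := ConcreteCategory.congr_hom (Spec.map_injective h3) z
  have h5 := congrArg HomogeneousLocalization.val h4
  simp only [β, CommRingCat.hom_comp, RingHom.comp_apply, CommRingCat.hom_ofHom, PConeImm.fromZero_val, z,
    Away.map_mk, Away.val_mk] at h5
  rw [Localization.mk_eq_mk', IsLocalization.eq_mk'_iff_mul_eq, IsLocalization.mk'_one, ← map_mul,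
    IsLocalization.eq_iff_exists (Submonoid.powers (ψ s))] at h5
  obtain ⟨⟨_, k, rfl⟩, hk⟩ := h5
  change au u hle s ^ k * ((𝒮L.str.app (op V)).hom a * au u hle s ^ m) = au u hle s ^ k * au u hle s' at hk
  obtain ⟨c', hc'⟩ := exists_coeff_au u hj (d := m • d) hs' hV hle he
  obtain ⟨c, hcu, hc⟩ := unit_coeff u hL hj hPL hs hV hVN he
  rw [hc, hc', mon, mon] at hk ⊢
  have key : a * c ^ m = c' := by
    refine (hcu.pow k).mul_left_cancel (sub_eq_zero.mp (SymInv.coeff_eq_zero hj hV he (d * k + d * m) ?_))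
    rw [map_sub, map_mul, map_mul, map_mul, map_pow, map_pow, sub_mul, sub_eq_zero]
    rw [mul_pow, mul_pow, smul_eq_mul, mul_comm m d] at hk
    simp only [← pow_mul] at hk
    linear_combination hk
  rw [mul_pow, ← pow_mul, smul_eq_mul, mul_comm m d, ← key, map_mul, map_pow, mul_assoc]

/-- Over a standard chart on which the two conditions hold, `r` is an isomorphism. -/
theorem isIso_restrict (hc' : IsCompact (q ⁻¹ᵁ U : Set X)) [(q ⁻¹ᵁ U).toScheme.IsSeparated]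
    (hu : Function.Bijective (u.app U).hom) {d : ℕ} (hd : 0 < d) {s : 𝒮.presheaf.obj (op U)}
    (hs : s ∈ 𝒮.deg U hU d) (hN : IsAffineOpen (nvU (j := j) u d s)) :
    IsIso (r ∣_ (QMap.aEmb p chart U hU hd s hs).opensRange) := by
  obtain ⟨T, g, hpb, hT⟩ := exists_restrict u hL hj hP hPL hr hd hs
  refine LPsi.map_restrict hpb (MorphismProperty.isomorphisms Scheme.{u}) ((LPsi.isIso_iff hN g).mpr ⟨?_, ?_⟩)
  · refine (injective_iff_map_eq_zero _).mpr fun z hz => ?_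
    obtain ⟨n, s', hs', rfl⟩ := Away.mk_surjective (𝒮.deg U hU) hs z
    have h0 : au u (nvU_le (j := j) u d s) s' = 0 := by
      rw [← toRingMap_spec u hL hj hP hPL hr hd hs hpb.w hT n s' hs', hz, map_zero, zero_mul]
    obtain ⟨k, -, hk⟩ := condInj u hL hj hPL hc' hu.1 hs n (by simpa using hs') h0
    refine val_injective _ ?_
    rw [Away.val_mk, val_zero, Localization.mk_eq_mk', IsLocalization.mk'_eq_zero_iff]
    exact ⟨⟨s ^ k, k, rfl⟩, hk⟩
  · intro t
    obtain ⟨m, s', hs', he⟩ := condSurj u hL hj hPL hc' hu hs t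
    exact ⟨Away.mk (𝒮.deg U hU) hs m s' (by rwa [smul_eq_mul]), fun_ext u hL hj hPL hs (m := m)
      ((toRingMap_spec u hL hj hP hPL hr hd hs hpb.w hT m s' _).trans he.symm)⟩

variable (hA : RelAmple.IsRelAmple q L) (hb : ∀ (U : Y.Opens), IsAffineOpen U → Function.Bijective (u.app U).hom)

include hA hb

omit hU U in
theorem domQ_top_and_isOpenImmersion : RelProj.domQ u pL chartL = ⊤ ∧ IsOpenImmersion r := by
  haveI := hA.1
  have hex : ∀ x : X, ∃ (U : Y.Opens) (hU : IsAffineOpen U) (d : ℕ) (hd : 0 < d) (s : 𝒮.presheaf.obj (op U))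
      (hs : s ∈ 𝒮.deg U hU d), x ∈ nvU (j := j) u d s ∧
      IsIso (r ∣_ (QMap.aEmb p chart U hU hd s hs).opensRange) := fun x => by
    obtain ⟨U, hU, hxU, -⟩ := exists_isAffineOpen_mem_and_subset (x := q.base x) (U := ⊤) trivial
    haveI := Ample.isSeparated_of_isAmple (hA.2 ⟨U, hU⟩)
    obtain ⟨d, hd, s, hs, hx, haff⟩ := exists_affine_cover u hL hj hPL (hU := hU) (hA.2 ⟨U, hU⟩) (hb U hU) hxU
    exact ⟨U, hU, d, hd, s, hs, hx, isIso_restrict u hL hj hP hPL hr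
      (q.isCompact_preimage hU.isCompact) (hb U hU) hd hs haff⟩
  choose U hU d hd s hs hx hiso using hex
  have htop : RelProj.domQ u pL chartL = ⊤ := top_le_iff.mp fun ξ _ =>
    preimage_nvU_le_domQ u hL hj hPL (hd (pL.base ξ)) (hs (pL.base ξ)) (hx (pL.base ξ))
  refine ⟨htop, ?_⟩
  let W : X → P.Opens := fun x => (QMap.aEmb p chart (U x) (hU x) (hd x) (s x) (hs x)).opensRange
  have hpre : r ⁻¹ᵁ (⨆ x, W x) = ⊤ := top_le_iff.mp fun y _ => Opens.mem_iSup.mpr ⟨pL.base y.1,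
    (mem_preimage_chart_iff u hL hj hP hPL hr (hd _) (hs _) y).mpr (hx _)⟩
  have hQ : IsIso (r ∣_ ⨆ x, W x) := by
    refine IsZariskiLocalAtTarget.of_iSup_eq_top (P := MorphismProperty.isomorphisms Scheme.{u})
      (fun a => (⨆ x, W x).ι ⁻¹ᵁ W a) ?_ fun a => ?_
    · rw [← Scheme.Hom.preimage_iSup, Scheme.Opens.ι_preimage_self]
    · refine ((MorphismProperty.isomorphisms Scheme.{u}).arrow_mk_iso_iff
        (morphismRestrictRestrict r _ _ ≪≫ morphismRestrictEq r ?_)).mpr (hiso a)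
      rw [Scheme.Hom.image_preimage_eq_opensRange_inf, Scheme.Opens.opensRange_ι]
      exact inf_eq_right.mpr (le_iSup W a)
  obtain ⟨e, he, hre⟩ := LPsi.eq_comp_of_preimage_eq_top hpre
  rw [hre]
  infer_instance

omit hU U in
theorem isDominant : IsDominant r := by
  haveI := hA.1
  refine ⟨dense_iff_inter_open.mpr fun O hO hne => ?_⟩
  obtain ⟨y, hy⟩ := hne
  obtain ⟨U, hU, hyU, -⟩ := exists_isAffineOpen_mem_and_subset (x := p.base y) (U := ⊤) trivial
  obtain ⟨v, rfl⟩ := QMap.exists_point (chart := chart) U hU y hyU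
  obtain ⟨n, hn, s, hs, hvs, hsub⟩ :=
    LPsi.exists_basicOpen_le (hO.preimage (RelProj.emb p chart U hU).continuous) hy
  by_contra hcon
  have hemp : nvU (j := j) u n s = ⊥ := by
    rw [eq_bot_iff]
    intro x hx
    haveI := SymInv.isIso_relProj hj hL hPL
    obtain ⟨ξ, rfl⟩ : ∃ ξ, pL.base ξ = x :=
      ⟨(inv pL).base x, by rw [← Scheme.Hom.comp_apply, IsIso.inv_hom_id]; rfl⟩
    have hξ := preimage_nvU_le_domQ u hL hj hPL hn hs hx
    obtain ⟨w, hw⟩ := (mem_preimage_chart_iff u hL hj hP hPL hr hn hs ⟨ξ, hξ⟩).mpr hx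
    exact hcon ⟨_, hw ▸ hsub ((Proj.opensRange_awayι (𝒮.deg U hU) s hs hn).le ⟨w, rfl⟩), ⟨ξ, hξ⟩, rfl⟩
  obtain ⟨k, -, hk⟩ := condInj u hL hj hPL (q.isCompact_preimage hU.isCompact) (hb U hU).1 hs 0
    (by rw [Nat.zero_mul]; exact SetLike.GradedOne.one_mem)
    (ext_cover (fun i : PEmpty.{1} => i.elim) (fun i => i.elim) (hemp.trans_le bot_le) fun i => i.elim)
  exact (LPsi.basicOpen_eq_empty_iff (𝒜 := 𝒮.deg U hU) hn hs).mpr ⟨k, by rwa [mul_one] at hk⟩ v
    |> hvs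

omit hU U in
theorem isIso [UniversallyClosed q] : IsIso r := by
  obtain ⟨htop, himm⟩ := domQ_top_and_isOpenImmersion u hL hj hP hPL hr hA hb
  haveI := himm
  haveI := isDominant u hL hj hP hPL hr hA hb
  haveI := SymInv.isIso_relProj hj hL hPL
  haveI := QMap.isIso_ι_of_eq_top _ htop
  haveI : UniversallyClosed (r ≫ p) := by
    rw [QMap.comp_base u hP hPL hr]; infer_instance
  haveI := RP.isSeparated hP
  haveI := UniversallyClosed.of_comp_of_isSeparated r p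
  refine isIso_of_isOpenImmersion_of_opensRange_eq_top r (top_le_iff.mp fun y _ => ?_)
  have hd : Dense (Set.range r.base) := r.denseRange
  have hc : IsClosed (Set.range r.base) := r.isClosedMap.isClosed_range
  exact (hc.closure_eq ▸ hd.closure_eq).ge (Set.mem_univ y)

end Groth.L16.LPsiRel
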