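import Groth.Agent.L16.LPsiAmple.RelMain
import Groth.Agent.L16.LPsiAmple.Consec
import Groth.Agent.L16.FrameIso
import Groth.Agent.L18.RelTilde.Frames
import Groth.Prelude.Def_RelProj2

/-!
# `r^* O(n) ≅ L^n` for a relatively ample `L`
-/

set_option autoImplicit false
set_option linter.style.haveILetI false

noncomputable section

universe u

open CategoryTheory CategoryTheory.Limits AlgebraicGeometry TopologicalSpace Opposite HomogeneousLocalization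
open Groth.L18
open Groth.L18.Frame (rs ro rs_rs rs_self rs_smul ro_ro ro_self IsFrame pull pull_rs pull_smul)
open Groth.L18.NormDesc (pf pf_rs pf_smul isFrame_pf)
open Groth.L18.LPsi (toRingMap)
open Groth.L18.Contract (secLocus)
open Groth.L16.LPsiAmple (res res_res mon mon_res mon_mul mon_pow mon_zero mon_inj mon_mem mon_congr ext_cover)

namespace Groth.L16.LPsiRel

variable {Y X P PL : Scheme.{u}} {q : X ⟶ Y} {L : X.Modules} {𝒮 : RelProj.QCGrAlg Y} {𝒮L : RelProj.QCGrAlg X}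
  {j : L ⟶ 𝒮L.toModule} (u : RelProj.QGrHom q 𝒮 𝒮L)
  [Coh.IsQCoh L] (hL : PicF.IsInvertible L) (hj : RelProj.IsGrSymAlg L 𝒮L j)
  {p : P ⟶ Y} {chart : ∀ (U : Y.Opens) (hU : IsAffineOpen U), (((p ⁻¹ᵁ U : P.Opens) : Scheme.{u}) ≅ Proj (𝒮.deg U hU))}
  (hP : RelProj.IsRelProj 𝒮 p chart)
  {pL : PL ⟶ X} {chartL : ∀ (U : X.Opens) (hU : IsAffineOpen U), (((pL ⁻¹ᵁ U : PL.Opens) : Scheme.{u}) ≅ Proj (𝒮L.deg U hU))}
  (hPL : RelProj.IsRelProj 𝒮L pL chartL)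

/-- An affine open of the base with two elements of consecutive degrees. -/
structure PIdx (𝒮 : RelProj.QCGrAlg Y) : Type u where
  U : Y.Opens
  hU : IsAffineOpen U
  k : ℕ
  hk : 0 < k
  s0 : 𝒮.presheaf.obj (op U)
  hs0 : s0 ∈ 𝒮.deg U hU k
  s1 : 𝒮.presheaf.obj (op U)
  hs1 : s1 ∈ 𝒮.deg U hU (k + 1)

/-- The locus where both elements generate. -/
def PIdx.G (i : PIdx 𝒮) : X.Opens := nvU (j := j) u i.k i.s0 ⊓ nvU (j := j) u (i.k + 1) i.s1

omit [Coh.IsQCoh L] in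
theorem PIdx.G_le (i : PIdx 𝒮) : i.G (j := j) u ≤ q ⁻¹ᵁ i.U := inf_le_left.trans (nvU_le u _ _)

/-- `τ = (s1 / s0) ^ n` on `W`. -/
def IsRatio (i : PIdx 𝒮) (n : ℕ) (W : X.Opens) (hW : W ≤ i.G (j := j) u) (τ : Γ(CohB1.tensorPow L n, W)) : Prop :=
  ∀ (O : X.Opens) (hO : O ≤ W) (e : Γ(L, O)) (c : Γ(X, O)), IsAffineOpen O → IsFrame L O e →
    c • pf e n = rs (CohB1.tensorPow L n) hO τ →
    mon j n c e * au u (hO.trans (hW.trans (i.G_le u))) i.s0 ^ n = au u (hO.trans (hW.trans (i.G_le u))) i.s1 ^ n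

omit [Coh.IsQCoh L] in
theorem IsRatio.mono {i : PIdx 𝒮} {n : ℕ} {W W' : X.Opens} {hW : W ≤ i.G (j := j) u} {τ : Γ(CohB1.tensorPow L n, W)}
    (h : IsRatio u i n W hW τ) (h' : W' ≤ W) : IsRatio u i n W' (h'.trans hW) (rs _ h' τ) :=
  fun O hO e c hOa he hc => h O (hO.trans h') e c hOa he (hc.trans (rs_rs _ _ _ _))

include hL hj hPL in
theorem IsRatio.eq {i : PIdx 𝒮} {n : ℕ} {W : X.Opens} {hW : W ≤ i.G (j := j) u} {τ τ' : Γ(CohB1.tensorPow L n, W)}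
    (h : IsRatio u i n W hW τ) (h' : IsRatio u i n W hW τ') : τ = τ' := by
  refine TopCat.Sheaf.eq_of_locally_eq' (⟨(CohB1.tensorPow L n).presheaf, (CohB1.tensorPow L n).isSheaf⟩ :
      TopCat.Sheaf Ab X.toTopCat)
    (fun O : {O : X.Opens // IsAffineOpen O ∧ O ≤ W ∧ ∃ e : Γ(L, O), IsFrame L O e} => O.1) W
    (fun O => homOfLE O.2.2.1) (fun x hx => ?_) _ _ ?_
  · obtain ⟨O, hO, e, hxO, hOW, he⟩ := SymInv.exists_affine_frame (L := L) hL x W hx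
    exact Opens.mem_iSup.mpr ⟨⟨O, hO, hOW, e, he⟩, hxO⟩
  rintro ⟨O, hO, hOW, e, he⟩
  show rs _ hOW τ = rs _ hOW τ'
  obtain ⟨c, hc⟩ := (isFrame_pf he n).exists_coeff le_rfl (rs (CohB1.tensorPow L n) hOW τ)
  obtain ⟨c', hc'⟩ := (isFrame_pf he n).exists_coeff le_rfl (rs (CohB1.tensorPow L n) hOW τ')
  rw [rs_self] at hc hc'
  rw [← hc, ← hc']
  refine congrArg (· • pf e n) ?_
  obtain ⟨c₀, hu0, hc₀⟩ := unit_coeff u hL hj hPL i.hs0 hO ((hOW.trans hW).trans inf_le_left) he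
  have e1 := (h O hOW e c hO he hc).trans (h' O hOW e c' hO he hc').symm
  rw [hc₀, mon_pow, mon_mul, mon_mul] at e1
  exact (hu0.pow n).mul_left_injective (mon_inj hj hO he e1)

include hL hj hPL in
theorem exists_ratio (i : PIdx 𝒮) (n : ℕ) :
    ∃ τ : Γ(CohB1.tensorPow L n, i.G (j := j) u), IsRatio u i n _ le_rfl τ ∧
      IsFrame (CohB1.tensorPow L n) (i.G (j := j) u) τ := by
  choose W hW e hxW hle he using fun x : (i.G (j := j) u : X.Opens) =>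
    SymInv.exists_affine_frame (L := L) hL x.1 (i.G (j := j) u) x.2
  choose a ha hca using fun x => unit_coeff u hL hj hPL i.hs0 (hW x) ((hle x).trans inf_le_left) (he x)
  choose b hb hcb using fun x => unit_coeff u hL hj hPL i.hs1 (hW x) ((hle x).trans inf_le_right) (he x)
  let t : ∀ x, Γ(CohB1.tensorPow L n, W x) := fun x => (b x * ((ha x).unit⁻¹ : Γ(X, W x)ˣ)) ^ n • pf (e x) n
  have ht : ∀ x, IsRatio u i n (W x) (hle x) (t x) := fun x O hO e' c hOa he' hc => by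
    rw [rs_smul, pf_rs] at hc
    rw [mon_congr he' hc, ← mon_res hO]
    rw [← au_res u (((hle x).trans inf_le_left).trans (nvU_le u _ _)) hO i.s0,
      ← au_res u (((hle x).trans inf_le_right).trans (nvU_le u _ _)) hO i.s1, hca, hcb, ← map_pow, ← map_mul,
      ← map_pow]
    refine congrArg (res 𝒮L hO) ?_
    rw [mon_pow, mon_pow, mon_mul, show (i.k + 1) * n = n + i.k * n by ring, mul_pow, mul_assoc, ← mul_pow _ (a x) n,
      IsUnit.val_inv_mul, one_pow, mul_one]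
  let F : TopCat.Sheaf Ab X.toTopCat := ⟨(CohB1.tensorPow L n).presheaf, (CohB1.tensorPow L n).isSheaf⟩
  obtain ⟨τ, hτ, -⟩ := TopCat.Sheaf.existsUnique_gluing' F W (i.G (j := j) u) (fun x => homOfLE (hle x))
    (fun x hx => Opens.mem_iSup.2 ⟨⟨x, hx⟩, hxW ⟨x, hx⟩⟩) t fun x y =>
      IsRatio.eq u hL hj hPL (hW := (inf_le_left : W x ⊓ W y ≤ W x).trans (hle x))
        ((ht x).mono u inf_le_left) ((ht y).mono u inf_le_right)
  have hτ' : ∀ x, rs (CohB1.tensorPow L n) (hle x) τ = t x := hτ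
  refine ⟨τ, fun O hO e' c hOa he' hc => ?_, ?_⟩
  · refine ext_cover (fun x => O ⊓ W x) (fun x => inf_le_left)
      (fun z hz => Opens.mem_iSup.2 ⟨⟨z, hO hz⟩, hz, hxW ⟨z, hO hz⟩⟩) fun x => ?_
    refine ext_cover (fun O' : {O' : X.Opens // IsAffineOpen O' ∧ O' ≤ O ⊓ W x} => O'.1) (fun O' => O'.2.2)
      (fun z hz => ?_) fun O' => ?_
    · obtain ⟨O', hO', hzO, hle'⟩ := exists_isAffineOpen_mem_and_subset hz
      exact Opens.mem_iSup.2 ⟨⟨O', hO', hle'⟩, hzO⟩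
    have hOl : O'.1 ≤ O := O'.2.2.trans inf_le_left
    rw [res_res, res_res, map_mul, map_pow, map_pow, au_res, au_res, mon_res hOl]
    refine ht x O'.1 (O'.2.2.trans inf_le_right) _ _ O'.2.1 (he'.mono hOl) ?_
    have := congrArg (rs (CohB1.tensorPow L n) hOl) hc
    rw [rs_smul, pf_rs, rs_rs] at this
    rw [this, ← hτ' x, rs_rs]
  · refine IsFrame.of_cover W hle (fun x hx => Opens.mem_iSup.2 ⟨⟨x, hx⟩, hxW ⟨x, hx⟩⟩) fun x => ?_
    rw [hτ' x]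
    exact (isFrame_pf (he x) n).smul_unit (((hb x).mul (Units.isUnit _)).pow n)

variable {r : ((RelProj.domQ u pL chartL : PL.Opens) : Scheme.{u}) ⟶ P}
  (hr : RelProj.IsProjQMapOn u p chart pL chartL (RelProj.domQ u pL chartL) r)
  {r' : X ⟶ P} (hr' : (RelProj.domQ u pL chartL).ι ≫ pL ≫ r' = r) (htop : RelProj.domQ u pL chartL = ⊤)

include hL hj hP hPL hr hr' htop

theorem mem_chart_iff {U : Y.Opens} (hU : IsAffineOpen U) {d : ℕ} (hd : 0 < d) {s : 𝒮.presheaf.obj (op U)}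
    (hs : s ∈ 𝒮.deg U hU d) (y : X) :
    r'.base y ∈ (QMap.aEmb p chart U hU hd s hs).opensRange ↔ y ∈ nvU (j := j) u d s := by
  haveI := SymInv.isIso_relProj hj hL hPL
  obtain ⟨ξ, rfl⟩ : ∃ ξ, pL.base ξ = y := ⟨(inv pL).base y, by rw [← Scheme.Hom.comp_apply, IsIso.inv_hom_id]; rfl⟩
  have := mem_preimage_chart_iff u hL hj hP hPL hr hd hs ⟨ξ, htop.ge trivial⟩
  refine Iff.trans ?_ this
  subst hr'
  rfl

theorem app_chart {U : Y.Opens} (hU : IsAffineOpen U) {d : ℕ} (hd : 0 < d) {f : 𝒮.presheaf.obj (op U)}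
    (hf : f ∈ 𝒮.deg U hU d) (m : ℕ) (num : 𝒮.presheaf.obj (op U)) (hnum : num ∈ 𝒮.deg U hU (m • d))
    (D : P.Opens) (hD : D = (QMap.aEmb p chart U hU hd f hf).opensRange) (a : Γ(P, D))
    (ha : ((QMap.aEmb p chart U hU hd f hf).appLE D ⊤ (fun x _ => hD.ge ⟨x, rfl⟩)).hom a =
      (Scheme.ΓSpecIso (CommRingCat.of (Away (𝒮.deg U hU) f))).inv (Away.mk (𝒮.deg U hU) hf m num hnum))
    (hN : nvU (j := j) u d f ≤ r' ⁻¹ᵁ D) :
    (𝒮L.str.app (op (nvU (j := j) u d f))).hom ((r'.appLE D (nvU (j := j) u d f) hN).hom a) *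
      au u (nvU_le (j := j) u d f) f ^ m = au u (nvU_le (j := j) u d f) num := by
  obtain ⟨T, g, hpb, hT⟩ := exists_restrict u hL hj hP hPL hr hd hf
  have hgr : (nvU (j := j) u d f).ι ≫ r' = g ≫ QMap.aEmb p chart U hU hd f hf := by
    rw [← hpb.w, ← hT]
    simp only [Category.assoc, hr']
  have key : (r'.appLE D (nvU (j := j) u d f) hN).hom a =
      (toRingMap g).hom (Away.mk (𝒮.deg U hU) hf m num hnum) := by
    apply (ConcreteCategory.bijective_of_isIso (nvU (j := j) u d f).topIso.inv).1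
    have h1 : r'.appLE D (nvU (j := j) u d f) hN ≫ (nvU (j := j) u d f).topIso.inv =
        (QMap.aEmb p chart U hU hd f hf).appLE D ⊤ (fun x _ => hD.ge ⟨x, rfl⟩) ≫ g.appTop := by
      have e1 : (nvU (j := j) u d f).topIso.inv =
          (nvU (j := j) u d f).ι.appLE (nvU (j := j) u d f) ⊤ (fun x _ => x.2) := by
        rw [Scheme.Opens.ι_appLE, Scheme.Opens.topIso_inv]; rfl
      rw [e1, show g.appTop = g.appLE ⊤ ⊤ le_top from Scheme.Hom.app_eq_appLE _, Scheme.Hom.appLE_comp_appLE,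
        Scheme.Hom.appLE_comp_appLE]
      simp only [hgr]
    refine (ConcreteCategory.congr_hom h1 a).trans ?_
    rw [CommRingCat.comp_apply, ha]
    simp only [toRingMap, CommRingCat.hom_comp, RingHom.comp_apply, Iso.hom_inv_id_apply]
  rw [key]
  exact toRingMap_spec u hL hj hP hPL hr hd hf hpb.w hT m num hnum

omit [Coh.IsQCoh L] hL hj hP hPL hr hr' htop in
theorem awayι_appLE {A σ : Type u} [CommRing A] [SetLike σ A] [AddSubgroupClass σ A] {𝒜 : ℕ → σ} [GradedRing 𝒜]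
    {d : ℕ} {f : A} (hd : 0 < d) (hf : f ∈ 𝒜 d) :
    Proj.awayToSection 𝒜 f ≫ (Proj.awayι 𝒜 f hf hd).appLE (Proj.basicOpen 𝒜 f) ⊤
      (fun x _ => (Proj.opensRange_awayι 𝒜 f hf hd).le ⟨x, rfl⟩) =
    (Scheme.ΓSpecIso (.of (Away 𝒜 f))).inv := by
  have h : (Proj.basicOpenIsoSpec 𝒜 f hf hd).hom.appTop = (Scheme.ΓSpecIso _).hom ≫
      Proj.awayToSection 𝒜 f ≫ (Proj.basicOpen 𝒜 f).topIso.inv := by
    rw [Proj.basicOpenIsoSpec_hom]; exact Proj.basicOpenToSpec_app_top 𝒜 f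
  have h2 : Proj.awayToSection 𝒜 f ≫ (Proj.basicOpen 𝒜 f).topIso.inv ≫
      (Proj.basicOpenIsoSpec 𝒜 f hf hd).inv.appTop = (Scheme.ΓSpecIso _).inv := by
    rw [← Category.assoc, ← (Iso.inv_comp_eq _).2 h, Category.assoc, ← Scheme.Hom.comp_appTop,
      Iso.inv_hom_id, Scheme.Hom.id_appTop]
    exact Category.comp_id _
  refine Eq.trans ?_ h2
  congr 1
  have e1 : (Proj.basicOpen 𝒜 f).topIso.inv =
      (Proj.basicOpen 𝒜 f).ι.appLE (Proj.basicOpen 𝒜 f) ⊤ (fun x _ => x.2) := by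
    rw [Scheme.Opens.ι_appLE, Scheme.Opens.topIso_inv]; rfl
  have e2 : (Proj.basicOpenIsoSpec 𝒜 f hf hd).inv.appTop =
      (Proj.basicOpenIsoSpec 𝒜 f hf hd).inv.appLE ⊤ ⊤ le_top := (Scheme.Hom.app_eq_appLE _)
  rw [e1, e2, Scheme.Hom.appLE_comp_appLE]
  rfl

variable {n : ℕ} {On : P.Modules} {lam : ∀ (U : Y.Opens) (hU : IsAffineOpen U),
    On ⟶ (Scheme.Modules.pushforward (RelProj.emb p chart U hU)).obj (GrTwist.twist (𝒮.deg U hU) (n : ℤ))}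
  (hOn : RelProj.IsRelTwist 𝒮 p chart (n : ℤ) On lam)

include hOn

theorem mem_emb_iff {U : Y.Opens} (hU : IsAffineOpen U) {d : ℕ} (hd : 0 < d) {s : 𝒮.presheaf.obj (op U)}
    (hs : s ∈ 𝒮.deg U hU d) (v : Proj (𝒮.deg U hU)) :
    (RelProj.emb p chart U hU).base v ∈ (QMap.aEmb p chart U hU hd s hs).opensRange ↔ s ∉ v.asHomogeneousIdeal :=
  QMap.mem_range_aEmb (p := p) (chart := chart) U hU hd s hs v

theorem exists_frames_transition (i i' : PIdx 𝒮) (V V' : P.Opens)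
    (hV : V = (QMap.aEmb p chart i.U i.hU i.hk i.s0 i.hs0).opensRange ⊓
      (QMap.aEmb p chart i.U i.hU i.k.succ_pos i.s1 i.hs1).opensRange)
    (hV' : V' = (QMap.aEmb p chart i'.U i'.hU i'.hk i'.s0 i'.hs0).opensRange ⊓
      (QMap.aEmb p chart i'.U i'.hU i'.k.succ_pos i'.s1 i'.hs1).opensRange)
    (e : Γ(On, V)) (e' : Γ(On, V'))
    (hev : ∀ (y : Proj (𝒮.deg i.U i.hU)) (hy : (RelProj.emb p chart i.U i.hU).base y ∈ V)
      (h0 : i.s0 ^ n ∉ y.asHomogeneousIdeal),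
      GrTwist.val (V := RelProj.emb p chart i.U i.hU ⁻¹ᵁ V) ((lam i.U i.hU).app V e) ⟨y, hy⟩ =
        Localization.mk (i.s1 ^ n) ⟨i.s0 ^ n, h0⟩)
    (hev' : ∀ (y : Proj (𝒮.deg i'.U i'.hU)) (hy : (RelProj.emb p chart i'.U i'.hU).base y ∈ V')
      (h0 : i'.s0 ^ n ∉ y.asHomogeneousIdeal),
      GrTwist.val (V := RelProj.emb p chart i'.U i'.hU ⁻¹ᵁ V') ((lam i'.U i'.hU).app V' e') ⟨y, hy⟩ =
        Localization.mk (i'.s1 ^ n) ⟨i'.s0 ^ n, h0⟩)
    (he' : IsFrame On V' e')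
    (c : Γ(P, V ⊓ V')) (hc : rs On inf_le_left e = c • rs On inf_le_right e')
    (hG : r' ⁻¹ᵁ V ≤ i.G (j := j) u) (hG' : r' ⁻¹ᵁ V' ≤ i'.G (j := j) u)
    (τ : Γ(CohB1.tensorPow L n, i.G (j := j) u)) (hτ : IsRatio u i n _ le_rfl τ)
    (τ' : Γ(CohB1.tensorPow L n, i'.G (j := j) u)) (hτ' : IsRatio u i' n _ le_rfl τ') :
    rs (CohB1.tensorPow L n) (inf_le_left.trans hG : r' ⁻¹ᵁ V ⊓ r' ⁻¹ᵁ V' ≤ i.G (j := j) u) τ =
      (show Γ(X, r' ⁻¹ᵁ V ⊓ r' ⁻¹ᵁ V') from (r'.app (V ⊓ V')).hom c) •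
        rs (CohB1.tensorPow L n) (inf_le_right.trans hG' : r' ⁻¹ᵁ V ⊓ r' ⁻¹ᵁ V' ≤ i'.G (j := j) u) τ' := by
  classical
  have loc : ∀ x ∈ r' ⁻¹ᵁ V ⊓ r' ⁻¹ᵁ V', ∃ (O : X.Opens) (hO : O ≤ r' ⁻¹ᵁ V ⊓ r' ⁻¹ᵁ V'), x ∈ O ∧
      rs (CohB1.tensorPow L n) (hO.trans (inf_le_left.trans hG)) τ =
      ro hO ((r'.app (V ⊓ V')).hom c) • rs (CohB1.tensorPow L n) (hO.trans (inf_le_right.trans hG')) τ' := by
    intro x hx
    have hpx : ∀ (i₀ : PIdx 𝒮) (s : 𝒮.presheaf.obj (op i₀.U)) (d : ℕ) (hd : 0 < d)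
        (hs : s ∈ 𝒮.deg i₀.U i₀.hU d), r'.base x ∈ (QMap.aEmb p chart i₀.U i₀.hU hd s hs).opensRange →
        p.base (r'.base x) ∈ i₀.U := by
      rintro i₀ s d hd hs ⟨w, hw⟩
      rw [← hw, QMap.aEmb, Scheme.Hom.comp_apply]
      exact QMap.π_emb_mem i₀.U i₀.hU _
    have hxU : p.base (r'.base x) ∈ i.U := hpx i _ _ i.hk i.hs0 (hV.le hx.1).1
    have hxU' : p.base (r'.base x) ∈ i'.U := hpx i' _ _ i'.hk i'.hs0 (hV'.le hx.2).1
    obtain ⟨ρ, ρ', eW, hxW⟩ := exists_basicOpen_le_affine_inter i.hU i'.hU _ ⟨hxU, hxU'⟩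
    obtain ⟨y, hy⟩ := QMap.exists_point (chart := chart) (Y.basicOpen ρ) (i.hU.basicOpen ρ) _ hxW
    set U'' := Y.basicOpen ρ with hU''def
    have hU'' : IsAffineOpen U'' := i.hU.basicOpen ρ
    let R := 𝒮.res i.hU hU'' (Y.basicOpen_le ρ)
    have hle' : U'' ≤ i'.U := eW.trans_le (Y.basicOpen_le ρ')
    let R' := 𝒮.res i'.hU hU'' hle'
    set a0 := R i.s0
    set a1 := R i.s1
    set b0 := R' i'.s0
    set b1 := R' i'.s1
    let f := a0 * a1 * (b0 * b1)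
    have hd : 0 < i.k + (i.k + 1) + (i'.k + (i'.k + 1)) := by omega
    have hf : f ∈ 𝒮.deg U'' hU'' (i.k + (i.k + 1) + (i'.k + (i'.k + 1))) :=
      SetLike.mul_mem_graded (SetLike.mul_mem_graded (R.map_mem i.hs0) (R.map_mem i.hs1))
        (SetLike.mul_mem_graded (R'.map_mem i'.hs0) (R'.map_mem i'.hs1))
    have hnum : a1 ^ (2 * n) * b0 ^ (2 * n) ∈ 𝒮.deg U'' hU'' (n • (i.k + (i.k + 1) + (i'.k + (i'.k + 1)))) := by
      have := SetLike.mul_mem_graded (SetLike.pow_mem_graded (2 * n) (R.map_mem i.hs1))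
        (SetLike.pow_mem_graded (2 * n) (R'.map_mem i'.hs0))
      simp only [smul_eq_mul] at this ⊢
      rwa [show 2 * n * (i.k + 1) + 2 * n * i'.k = n * (i.k + (i.k + 1) + (i'.k + (i'.k + 1))) by ring] at this
    set emb := RelProj.emb p chart U'' hU''
    let B := Proj.basicOpen (𝒮.deg U'' hU'') f
    let D : P.Opens := emb ''ᵁ B
    have hDa : D = (QMap.aEmb p chart U'' hU'' hd f hf).opensRange := by
      show emb ''ᵁ B = (Proj.awayι (𝒮.deg U'' hU'') f hf hd ≫ emb).opensRange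
      rw [Scheme.Hom.opensRange_comp, Proj.opensRange_awayι]
    -- points of the chart over `U''`
    have hres : ∀ (w : Proj (𝒮.deg U'' hU'')) {U₀ : Y.Opens} (hU₀ : IsAffineOpen U₀) (h : U'' ≤ U₀) {d₀ : ℕ}
        (hd₀ : 0 < d₀) (s : 𝒮.presheaf.obj (op U₀)) (hs : s ∈ 𝒮.deg U₀ hU₀ d₀),
        emb.base w ∈ (QMap.aEmb p chart U₀ hU₀ hd₀ s hs).opensRange ↔
          𝒮.res hU₀ hU'' h s ∉ w.asHomogeneousIdeal := fun w U₀ hU₀ h d₀ hd₀ s hs => by
      obtain ⟨v, hv⟩ := QMap.exists_point (chart := chart) U₀ hU₀ (emb.base w) (h (QMap.π_emb_mem U'' hU'' w))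
      rw [← hv]
      exact (QMap.mem_range_aEmb (p := p) (chart := chart) U₀ hU₀ hd₀ s hs v).trans
        (not_congr (QMap.point_compat hP hU₀ hU'' h hv s).symm)
    have hw : ∀ w : Proj (𝒮.deg U'' hU''), f ∉ w.asHomogeneousIdeal →
        (a0 ∉ w.asHomogeneousIdeal ∧ a1 ∉ w.asHomogeneousIdeal) ∧
          b0 ∉ w.asHomogeneousIdeal ∧ b1 ∉ w.asHomogeneousIdeal := fun w hw =>
      ⟨⟨fun h => hw (Ideal.mul_mem_right _ _ (Ideal.mul_mem_right _ _ h)),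
        fun h => hw (Ideal.mul_mem_right _ _ (Ideal.mul_mem_left _ _ h))⟩,
        fun h => hw (Ideal.mul_mem_left _ _ (Ideal.mul_mem_right _ _ h)),
        fun h => hw (Ideal.mul_mem_left _ _ (Ideal.mul_mem_left _ _ h))⟩
    have hDV : D ≤ V ⊓ V' := by
      rintro _ ⟨w, hwf, rfl⟩
      obtain ⟨⟨h0, h1⟩, h2, h3⟩ := hw w hwf
      exact ⟨hV.ge ⟨(hres w i.hU _ i.hk _ i.hs0).mpr h0, (hres w i.hU _ i.k.succ_pos _ i.hs1).mpr h1⟩,
        hV'.ge ⟨(hres w i'.hU _ i'.hk _ i'.hs0).mpr h2, (hres w i'.hU _ i'.k.succ_pos _ i'.hs1).mpr h3⟩⟩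
    have hxD : r'.base x ∈ D := by
      refine ⟨y, fun h => ?_, hy⟩
      have hx' := hy ▸ (⟨hV.le hx.1, hV'.le hx.2⟩ : _ ∧ _)
      rcases y.isPrime.mem_or_mem h with h | h <;> rcases y.isPrime.mem_or_mem h with h | h
      · exact (hres y i.hU _ i.hk _ i.hs0).mp hx'.1.1 h
      · exact (hres y i.hU _ i.k.succ_pos _ i.hs1).mp hx'.1.2 h
      · exact (hres y i'.hU _ i'.hk _ i'.hs0).mp hx'.2.1 h
      · exact (hres y i'.hU _ i'.k.succ_pos _ i'.hs1).mp hx'.2.2 h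
    -- values of the two frames over `U''`
    have hval : ∀ (i₀ : PIdx 𝒮) (ρ₀ : Γ(Y, i₀.U)) (hU₀ : U'' = Y.basicOpen ρ₀) (V₀ : P.Opens) (e₀ : Γ(On, V₀))
        (_ : ∀ (y : Proj (𝒮.deg i₀.U i₀.hU)) (hy : (RelProj.emb p chart i₀.U i₀.hU).base y ∈ V₀)
          (h0 : i₀.s0 ^ n ∉ y.asHomogeneousIdeal),
          GrTwist.val (V := RelProj.emb p chart i₀.U i₀.hU ⁻¹ᵁ V₀) ((lam i₀.U i₀.hU).app V₀ e₀) ⟨y, hy⟩ =
            Localization.mk (i₀.s1 ^ n) ⟨i₀.s0 ^ n, h0⟩)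
        (hDV₀ : D ≤ V₀) (w : Proj (𝒮.deg U'' hU'')) (hwD : emb.base w ∈ D)
        (h0 : 𝒮.res i₀.hU hU'' (hU₀.trans_le (Y.basicOpen_le ρ₀)) i₀.s0 ^ n ∉ w.asHomogeneousIdeal),
        GrTwist.val (V := emb ⁻¹ᵁ D) ((lam U'' hU'').app D (rs On hDV₀ e₀)) ⟨w, hwD⟩ =
          Localization.mk (𝒮.res i₀.hU hU'' (hU₀.trans_le (Y.basicOpen_le ρ₀)) i₀.s1 ^ n) ⟨_, h0⟩ := by
      intro i₀ ρ₀ hU₀ V₀ e₀ he₀ hDV₀
      have key : ∀ (W : Y.Opens) (hW : IsAffineOpen W) (hWle : W ≤ i₀.U) (_ : W = Y.basicOpen ρ₀)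
          (w : Proj (𝒮.deg W hW)) (hwD : (RelProj.emb p chart W hW).base w ∈ D)
          (h0 : 𝒮.res i₀.hU hW hWle i₀.s0 ^ n ∉ w.asHomogeneousIdeal),
          GrTwist.val (V := RelProj.emb p chart W hW ⁻¹ᵁ D) ((lam W hW).app D (rs On hDV₀ e₀)) ⟨w, hwD⟩ =
            Localization.mk (𝒮.res i₀.hU hW hWle i₀.s1 ^ n) ⟨_, h0⟩ := by
        rintro W hW hWle rfl w hwD h0
        have hw' : (RelProj.emb p chart i₀.U i₀.hU).base (ProjectiveSpectrum.comap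
            (𝒮.res i₀.hU (i₀.hU.basicOpen ρ₀) (Y.basicOpen_le ρ₀)) (𝒮.irrelevant_le_map i₀.U i₀.hU ρ₀) w) ∈ D := by
          have e := RelProj.map_res_emb hP i₀.U i₀.hU ρ₀
          rw [← e] at hwD
          exact hwD
        refine (hOn.compat i₀.U i₀.hU ρ₀ D (rs On hDV₀ e₀) w hwD hw').trans ?_
        rw [show (lam i₀.U i₀.hU).app D (rs On hDV₀ e₀) = rs ((Scheme.Modules.pushforward
            (RelProj.emb p chart i₀.U i₀.hU)).obj (GrTwist.twist (𝒮.deg i₀.U i₀.hU) (n : ℤ))) hDV₀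
              ((lam i₀.U i₀.hU).app V₀ e₀) from
          ConcreteCategory.congr_hom ((lam i₀.U i₀.hU).mapPresheaf.naturality (homOfLE hDV₀).op) e₀]
        refine (congrArg (GrTwist.locMap _ _ w) (he₀ _ (hDV₀ hw') fun h => h0 ?_)).trans ?_
        · rw [← map_pow]; exact h
        refine (GrTwist.locMap_mk _ _ w _ _).trans ?_
        simp only [map_pow]
      exact key U'' hU'' (hU₀.trans_le (Y.basicOpen_le ρ₀)) hU₀
    -- the ratio as a function on `D`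
    set z := Away.mk (𝒮.deg U'' hU'') hf n (a1 ^ (2 * n) * b0 ^ (2 * n)) hnum
    let a : Γ(P, D) := (emb.appIso B).inv (Proj.awayToSection (𝒮.deg U'' hU'') f z)
    have ha : a = ro hDV c := by
      refine (he'.mono inf_le_right).inj hDV (?_ : a • rs On hDV (rs On inf_le_right e') =
        ro hDV c • rs On hDV (rs On inf_le_right e'))
      rw [← rs_smul, ← hc, rs_rs, rs_rs]
      refine (hOn.bijective U'' hU'' D ((Scheme.Hom.image_le_opensRange _ _).trans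
        (RP.opensRange_emb U'' hU'').le)).1 ?_
      refine (Scheme.Modules.Hom.app_smul (lam U'' hU'') a _).trans ?_
      refine Groth.L18.GrM.sectN_ext (𝒜 := 𝒮.deg U'' hU'') fun w => ?_
      have hwD : emb.base w.1 ∈ D := w.2
      have hwf : f ∉ w.1.asHomogeneousIdeal := by
        obtain ⟨w', hw', e0⟩ := hwD
        rwa [emb.isOpenEmbedding.injective e0] at hw'
      obtain ⟨⟨h0, h1⟩, h2, h3⟩ := hw w.1 hwf
      refine Eq.trans ?_ (hval i ρ rfl V e hev (hDV.trans inf_le_left) w.1 hwD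
        (fun h => h0 (w.1.isPrime.mem_of_pow_mem _ h))).symm
      refine (GrTwist.coe_smul_val _ w.1 _ _).trans ?_
      refine (congrArg (_ * ·) (hval i' ρ' eW V' e' hev' (hDV.trans inf_le_right) w.1 hwD
        (fun h => h2 (w.1.isPrime.mem_of_pow_mem _ h)))).trans ?_
      have hBle : emb ⁻¹ᵁ D ≤ B := (emb.preimage_image_eq B).le
      have h5 : emb.app D a = (Proj (𝒮.deg U'' hU'')).presheaf.map (homOfLE hBle).op
          (Proj.awayToSection (𝒮.deg U'' hU'') f z) := by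
        show ((emb.appIso B).inv ≫ emb.app (emb ''ᵁ B)) _ = _
        rw [Scheme.Hom.appIso_inv_app]
        rfl
      have h6 := congrArg (fun (q : Γ(Proj (𝒮.deg U'' hU''), emb ⁻¹ᵁ D)) => (q.1 w).val) h5
      refine (congrArg (· * _) (h6.trans
        (ProjectiveSpectrum.Proj.awayToSection_apply (𝒮.deg U'' hU'') f z ⟨w.1, hBle w.2⟩))).trans ?_
      rw [Away.val_mk, Localization.mk_eq_mk', IsLocalization.map_mk', ← Localization.mk_eq_mk', Localization.mk_mul,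
        Localization.mk_eq_mk_iff, Localization.r_iff_exists]
      refine ⟨1, ?_⟩
      simp only [Submonoid.coe_mul, OneMemClass.coe_one, one_mul, RingHom.id_apply]
      show a0 ^ n * (a1 ^ (2 * n) * b0 ^ (2 * n) * b1 ^ n) = f ^ n * b0 ^ n * a1 ^ n
      simp only [f, mul_pow, two_mul, pow_add]
      ring
    -- pull back to `X`
    have hN : ∀ z₀, z₀ ∈ nvU (j := j) u (i.k + (i.k + 1) + (i'.k + (i'.k + 1))) f → r'.base z₀ ∈ D := fun z₀ hz => by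
      rw [hDa]; exact (mem_chart_iff u hL hj hP hPL hr hr' htop hU'' hd hf z₀).mpr hz
    have hxN : x ∈ nvU (j := j) u (i.k + (i.k + 1) + (i'.k + (i'.k + 1))) f := by
      rw [hDa] at hxD; exact (mem_chart_iff u hL hj hP hPL hr hr' htop hU'' hd hf x).mp hxD
    have hspec := app_chart u hL hj hP hPL hr hr' htop hU'' hd hf n _ hnum D hDa a (by
      have hB : ⊤ ≤ Proj.awayι (𝒮.deg U'' hU'') f hf hd ⁻¹ᵁ B :=
        fun x _ => (Proj.opensRange_awayι (𝒮.deg U'' hU'') f hf hd).le ⟨x, rfl⟩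
      have hBD : B ≤ emb ⁻¹ᵁ D := (emb.preimage_image_eq B).ge
      show ((Proj.awayι (𝒮.deg U'' hU'') f hf hd ≫ emb).appLE D ⊤ _).hom a = _
      rw [← Scheme.Hom.appLE_comp_appLE _ emb D B ⊤ hBD hB, CommRingCat.comp_apply]
      have h5 : (emb.appLE D B hBD).hom a = Proj.awayToSection (𝒮.deg U'' hU'') f z := by
        show ((emb.appIso B).inv ≫ emb.appLE (emb ''ᵁ B) B _) _ = _
        rw [← emb.appIso_hom', Iso.inv_hom_id]
        rfl
      rw [h5]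
      exact ConcreteCategory.congr_hom (awayι_appLE hd hf) z) hN
    obtain ⟨O, hO, ε, hxO, hON, hε⟩ := SymInv.exists_affine_frame (L := L) hL x
      (nvU (j := j) u (i.k + (i.k + 1) + (i'.k + (i'.k + 1))) f ⊓ (r' ⁻¹ᵁ V ⊓ r' ⁻¹ᵁ V')) ⟨hxN, hx⟩
    have hOle : O ≤ r' ⁻¹ᵁ V ⊓ r' ⁻¹ᵁ V' := hON.trans inf_le_right
    refine ⟨O, hOle, hxO, ?_⟩
    have hOG : O ≤ i.G (j := j) u := hOle.trans (inf_le_left.trans hG)
    have hOG' : O ≤ i'.G (j := j) u := hOle.trans (inf_le_right.trans hG')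
    obtain ⟨ct, hct⟩ := (isFrame_pf hε n).exists_coeff le_rfl (rs (CohB1.tensorPow L n) hOG τ)
    obtain ⟨ct', hct'⟩ := (isFrame_pf hε n).exists_coeff le_rfl (rs (CohB1.tensorPow L n) hOG' τ')
    rw [rs_self] at hct hct'
    have r1 := hτ O hOG ε ct hO hε hct
    have r2 := hτ' O hOG' ε ct' hO hε hct'
    obtain ⟨c0, u0, hc0⟩ := unit_coeff u hL hj hPL i.hs0 hO (hOG.trans inf_le_left) hε
    obtain ⟨c1, u1, hc1⟩ := unit_coeff u hL hj hPL i.hs1 hO (hOG.trans inf_le_right) hε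
    obtain ⟨d0, v0, hd0⟩ := unit_coeff u hL hj hPL i'.hs0 hO (hOG'.trans inf_le_left) hε
    obtain ⟨d1, v1, hd1⟩ := unit_coeff u hL hj hPL i'.hs1 hO (hOG'.trans inf_le_right) hε
    rw [hc0, hc1, mon_pow, mon_pow, mon_mul, show n + i.k * n = (i.k + 1) * n by ring] at r1
    rw [hd0, hd1, mon_pow, mon_pow, mon_mul, show n + i'.k * n = (i'.k + 1) * n by ring] at r2
    have hOf : O ≤ nvU (j := j) u (i.k + (i.k + 1) + (i'.k + (i'.k + 1))) f := hON.trans inf_le_left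
    have r3 := congrArg (res 𝒮L hOf) hspec
    set α := ro hOle ((r'.app (V ⊓ V')).hom c) with hαdef
    have hα : res 𝒮L hOf ((𝒮L.str.app (op (nvU (j := j) u (i.k + (i.k + 1) + (i'.k + (i'.k + 1))) f))).hom ((r'.appLE D _ hN).hom a)) =
        (𝒮L.str.app (op O)).hom α := by
      refine (ConcreteCategory.congr_hom (𝒮L.str.naturality (homOfLE hOf).op) _).symm.trans ?_
      refine congrArg (𝒮L.str.app (op O)).hom ?_
      rw [ha]
      show (P.presheaf.map (homOfLE hDV).op ≫ r'.appLE D _ hN ≫ X.presheaf.map (homOfLE hOf).op).hom c =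
        (r'.app (V ⊓ V') ≫ X.presheaf.map (homOfLE hOle).op).hom c
      congr 2
      rw [Scheme.Hom.appLE_map, Scheme.Hom.map_appLE, Scheme.Hom.app_eq_appLE, Scheme.Hom.appLE_map]
    rw [map_mul, map_pow, hα, au_res, au_res] at r3
    have hA : ∀ (i₀ : PIdx 𝒮) (h : U'' ≤ i₀.U) (s : 𝒮.presheaf.obj (op i₀.U)) (hO₀ : O ≤ q ⁻¹ᵁ U''),
        au u hO₀ (𝒮.res i₀.hU hU'' h s) = au u (hO₀.trans (q.preimage_mono h)) s := fun i₀ h s hO₀ =>
      ConcreteCategory.congr_hom (u.map_appLE h hO₀) s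
    simp only [f, map_mul, map_pow, a0, a1, b0, b1, R, R', hA] at r3
    rw [hc0, hc1, hd0, hd1] at r3
    have r4 : α * (c0 * c1 * (d0 * d1)) ^ n = c1 ^ (2 * n) * d0 ^ (2 * n) := by
      refine mon_inj (n := (i.k + (i.k + 1) + (i'.k + (i'.k + 1))) * n) hj hO hε ?_
      rw [mon_mul, mon_mul, mon_mul, mon_pow, mon_pow, mon_pow, mon_mul] at r3
      rw [show (i.k + 1) * (2 * n) + i'.k * (2 * n) = (i.k + (i.k + 1) + (i'.k + (i'.k + 1))) * n by ring] at r3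
      refine Eq.trans ?_ r3
      rw [mon, mon, map_mul, mul_assoc]
    have r1' := mon_inj hj hO hε r1
    have r2' := mon_inj hj hO hε r2
    rw [← hct, ← hct', ← mul_smul]
    refine congrArg (· • pf ε n) ?_
    refine (((u0.mul u1).mul (v0.mul v1)).pow n).mul_right_cancel ?_
    simp only [mul_pow, two_mul, pow_add] at r4 ⊢
    linear_combination (c1 ^ n * d0 ^ n * d1 ^ n) * r1' - ct' * r4 - (c1 ^ n * c1 ^ n * d0 ^ n) * r2'
  choose O hO hxO hloc using fun x : (r' ⁻¹ᵁ V ⊓ r' ⁻¹ᵁ V' : X.Opens) => loc x.1 x.2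
  refine TopCat.Sheaf.eq_of_locally_eq' (⟨(CohB1.tensorPow L n).presheaf, (CohB1.tensorPow L n).isSheaf⟩ :
      TopCat.Sheaf Ab X.toTopCat) O _ (fun x => homOfLE (hO x))
    (fun x hx => Opens.mem_iSup.2 ⟨⟨x, hx⟩, hxO ⟨x, hx⟩⟩) _ _ fun x => ?_
  show rs _ (hO x) (rs _ _ τ) = rs _ (hO x) (_ • rs _ _ τ')
  rw [rs_rs, rs_smul, rs_rs]
  exact hloc x

theorem nonempty_iso_of_cover (hex : ∀ x : X, ∃ i : PIdx 𝒮, x ∈ i.G (j := j) u) :
    Nonempty ((Scheme.Modules.pullback r').obj On ≅ CohB1.tensorPow L n) := by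
  classical
  let V : PIdx 𝒮 → P.Opens := fun i => (QMap.aEmb p chart i.U i.hU i.hk i.s0 i.hs0).opensRange ⊓
    (QMap.aEmb p chart i.U i.hU i.k.succ_pos i.s1 i.hs1).opensRange
  have hVG : ∀ i, r' ⁻¹ᵁ V i ≤ i.G (j := j) u := fun i x hx =>
    ⟨(mem_chart_iff u hL hj hP hPL hr hr' htop i.hU i.hk i.hs0 x).mp hx.1,
      (mem_chart_iff u hL hj hP hPL hr hr' htop i.hU i.k.succ_pos i.hs1 x).mp hx.2⟩
  have hV : ∀ i, V i ≤ p ⁻¹ᵁ i.U := fun i => inf_le_left.trans (by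
    rintro _ ⟨w, rfl⟩
    show p.base _ ∈ i.U
    rw [QMap.aEmb, Scheme.Hom.comp_apply]
    exact QMap.π_emb_mem i.U i.hU _)
  have hfr : ∀ i : PIdx 𝒮, ∃ e : Γ(On, V i), IsFrame On (V i) e ∧
      ∀ (y : Proj (𝒮.deg i.U i.hU)) (hy : (RelProj.emb p chart i.U i.hU).base y ∈ V i)
        (h0 : i.s0 ^ n ∉ y.asHomogeneousIdeal),
        GrTwist.val (V := RelProj.emb p chart i.U i.hU ⁻¹ᵁ V i) ((lam i.U i.hU).app (V i) e) ⟨y, hy⟩ =
          Localization.mk (i.s1 ^ n) ⟨i.s0 ^ n, h0⟩ := fun i => by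
    obtain ⟨e, he, hev⟩ := RelTilde.exists_frame_twist hOn i.hU
      (⟨i.s1 ^ n, SetLike.pow_mem_graded _ i.hs1⟩ : 𝒮.deg i.U i.hU (n • (i.k + 1)))
      (⟨i.s0 ^ n, SetLike.pow_mem_graded _ i.hs0⟩ : 𝒮.deg i.U i.hU (n • i.k))
      (by simp only [smul_eq_mul, Nat.cast_mul, Nat.cast_add, Nat.cast_one]; ring) (hV i)
      (fun y hy h => (mem_emb_iff u hL hj hP hPL hr hr' htop hOn i.hU i.k.succ_pos i.hs1 y).mp hy.2
        (y.isPrime.mem_of_pow_mem _ h))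
      (fun y hy h => (mem_emb_iff u hL hj hP hPL hr hr' htop hOn i.hU i.hk i.hs0 y).mp hy.1
        (y.isPrime.mem_of_pow_mem _ h))
    refine ⟨e, he, fun y hy h0 => ?_⟩
    rw [hev]
    rfl
  choose e he hev using hfr
  choose τ hτ hτf using fun i => exists_ratio u hL hj hPL i n
  choose c hc using fun i i' => ((he i').mono (inf_le_right : V i ⊓ V i' ≤ V i')).exists_coeff le_rfl
    (rs On (inf_le_left : V i ⊓ V i' ≤ V i) (e i))
  simp only [rs_self] at hc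
  refine Groth.L16.FrameIso.nonempty_iso (fun i => r' ⁻¹ᵁ V i) (fun i => pull r' On (V i) (e i))
    (fun i => (he i).pullback r' _) (fun x => ?_) (fun i i' => r'.app (V i ⊓ V i') (c i i')) (fun i i' => ?_)
    (fun i => rs (CohB1.tensorPow L n) (hVG i) (τ i)) (fun i => (hτf i).mono _) fun i i' => ?_
  · obtain ⟨i, h0, h1⟩ := hex x
    exact ⟨i, (mem_chart_iff u hL hj hP hPL hr hr' htop i.hU i.hk i.hs0 x).mpr h0,
      (mem_chart_iff u hL hj hP hPL hr hr' htop i.hU i.k.succ_pos i.hs1 x).mpr h1⟩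
  · have h := congrArg (pull r' On (V i ⊓ V i')) (hc i i')
    rw [pull_smul, ← pull_rs, ← pull_rs] at h
    exact h.symm
  · show rs _ inf_le_left (rs _ _ (τ i)) = _ • rs _ inf_le_right (rs _ _ (τ i'))
    rw [rs_rs, rs_rs]
    exact exists_frames_transition u hL hj hP hPL hr hr' htop hOn i i' (V i) (V i') rfl rfl (e i) (e i')
      (hev i) (hev i') (he i') (c i i') (hc i i').symm (hVG i) (hVG i') (τ i) (hτ i) (τ i') (hτ i')

theorem nonempty_iso [QuasiCompact q] (hA : RelAmple.IsRelAmple q L)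
    (hb : ∀ (U : Y.Opens), IsAffineOpen U → Function.Bijective (u.app U).hom) :
    Nonempty ((Scheme.Modules.pullback r').obj On ≅ CohB1.tensorPow L n) := by
  refine nonempty_iso_of_cover u hL hj hP hPL hr hr' htop hOn fun x => ?_
  obtain ⟨U, hU, hxU, -⟩ := exists_isAffineOpen_mem_and_subset (x := q.base x) (U := ⊤) trivial
  obtain ⟨d, hd, s, t, hxs, hxt⟩ := Consec.exists_gen_consecutive (hA.2 ⟨U, hU⟩) ⟨x, hxU⟩
  obtain ⟨σ, hσ⟩ := Consec.exists_sec_of_hom s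
  obtain ⟨σ', hσ'⟩ := Consec.exists_sec_of_hom t
  obtain ⟨s0, hs0, h0⟩ := exists_elem_of_sec u hL hj hPL (hU := hU) (hb U hU) σ
  obtain ⟨s1, hs1, h1⟩ := exists_elem_of_sec u hL hj hPL (hU := hU) (hb U hU) σ'
  exact ⟨⟨U, hU, d, hd, s0, hs0, s1, hs1⟩, h0 ▸ hσ.ge hxs, h1 ▸ hσ'.ge hxt⟩

  
end Groth.L16.LPsiRel
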