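import Groth.Agent.L16.LPsiAmple.RelTwistIso
import Groth.Agent.L18.PBundle.VeryAmpleSec

/-!
# `r_{L,σ}` for a very ample module
-/

set_option autoImplicit false
set_option linter.style.haveILetI false

noncomputable section

universe u

open CategoryTheory CategoryTheory.Limits AlgebraicGeometry TopologicalSpace Opposite
open Groth.L18
open Groth.L18.Frame (rs ro rs_rs rs_self rs_smul ro_ro ro_self IsFrame)
open Groth.L16.LPsiAmple (res res_res mon mon_res mon_inj)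

namespace Groth.L16.LPsiRel

variable {Y X P PL : Scheme.{u}} {q : X ⟶ Y} {L : X.Modules} {𝒮L : RelProj.QCGrAlg X}
  {jL : L ⟶ 𝒮L.toModule} {E : Y.Modules} (w : E ⟶ (Scheme.Modules.pushforward q).obj L) {𝒜 : RelProj.QCGrAlg Y}
  {jE : E ⟶ 𝒜.toModule} (u : RelProj.QGrHom q 𝒜 𝒮L)
  (hu : ∀ (U : Y.Opens) (x : Γ(E, U)),
    (u.app U).hom ((jE.app U) x) = (jL.app (q ⁻¹ᵁ U)) (w.app U x))

include hu in
theorem au_el {U : Y.Opens} (e : Γ(E, U)) {W : X.Opens} (h : W ≤ q ⁻¹ᵁ U) :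
    au u h (PBundle.el jE e) = SymInv.gen jL (rs L h (show Γ(L, q ⁻¹ᵁ U) from w.app U e)) := by
  refine (res_app u _ h).symm.trans ?_
  rw [show (u.app U).hom (PBundle.el jE e) = _ from hu U e]
  exact (ConcreteCategory.congr_hom (jL.mapPresheaf.naturality (homOfLE h).op)
    (show Γ(L, q ⁻¹ᵁ U) from w.app U e)).symm

variable [Coh.IsQCoh L] (hL : PicF.IsInvertible L) (hjL : RelProj.IsGrSymAlg L 𝒮L jL)
  (hE : RelProj.IsGrSymAlg E 𝒜 jE)
  (hEq : Coh.IsQCoh E)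
  {pL : PL ⟶ X} {chartL : ∀ (U : X.Opens) (hU : IsAffineOpen U), (((pL ⁻¹ᵁ U : PL.Opens) : Scheme.{u}) ≅ Proj (𝒮L.deg U hU))}
  (hPL : RelProj.IsRelProj 𝒮L pL chartL)

include hu hL hjL hE hPL in
theorem mem_nvU_el {U : Y.Opens} (hU : IsAffineOpen U) (σ : Γ(E, U))
    {W : X.Opens} (hW : IsAffineOpen W) (h : W ≤ q ⁻¹ᵁ U)
    (hσ : IsFrame L W (rs L h (show Γ(L, q ⁻¹ᵁ U) from w.app U σ))) {x : X} (hx : x ∈ W) :
    x ∈ nvU (j := jL) u 1 (PBundle.el jE σ) := by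
  have hc : au u h (PBundle.el jE σ) = mon jL 1 (1 : Γ(X, W)) (rs L h (show Γ(L, q ⁻¹ᵁ U) from w.app U σ)) := by
    rw [au_el w u hu σ h, mon, map_one, one_mul, pow_one]
  have := (nvU_inf_eq u hL hjL hPL (PBundle.el_mem hE hU σ) hW h hσ hc).ge
  rw [X.basicOpen_of_isUnit isUnit_one] at this
  exact (this hx).1

include hu hL hjL hE hPL hEq in
/-- Sections generating `L` give an everywhere defined morphism solving the universal problem. -/
theorem exists_sol {p : P ⟶ Y}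
    {chart : ∀ (U : Y.Opens) (hU : IsAffineOpen U), (((p ⁻¹ᵁ U : P.Opens) : Scheme.{u}) ≅ Proj (𝒜.deg U hU))}
    (hP : RelProj.IsRelProj 𝒜 p chart) {r : ((RelProj.domQ u pL chartL : PL.Opens) : Scheme.{u}) ⟶ P}
    (hr : RelProj.IsProjQMapOn u p chart pL chartL (RelProj.domQ u pL chartL) r)
    (hcov : ∀ x : X, ∃ (U : Y.Opens) (_ : IsAffineOpen U) (σ : Γ(E, U))
      (W : X.Opens) (_ : IsAffineOpen W) (hWU : W ≤ q ⁻¹ᵁ U), x ∈ W ∧
      IsFrame L W (rs L hWU (show Γ(L, q ⁻¹ᵁ U) from w.app U σ))) :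
    RelProj.domQ u pL chartL = ⊤ ∧ ∃ (r' : X ⟶ P) (hr'p : r' ≫ p = q),
      (RelProj.domQ u pL chartL).ι ≫ pL ≫ r' = r ∧
      ∃ (O1 : P.Modules) (lam : ∀ (U : Y.Opens) (hU : IsAffineOpen U),
        O1 ⟶ (Scheme.Modules.pushforward (RelProj.emb p chart U hU)).obj (GrTwist.twist (𝒜.deg U hU) 1))
        (φ : E ⟶ (Scheme.Modules.pushforward p).obj O1),
        RelProj.IsRelTwist 𝒜 p chart 1 O1 lam ∧ PBundle.IsTaut φ lam jE ∧ PBundle.Sol φ r' hr'p w := by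
  haveI := SymInv.isIso_relProj hjL hL hPL
  choose U hU σ W hW hWU hxW hσ using hcov
  have htop : RelProj.domQ u pL chartL = ⊤ := top_le_iff.mp fun ξ _ =>
    preimage_nvU_le_domQ u hL hjL hPL (hU := hU (pL.base ξ)) Nat.one_pos (PBundle.el_mem hE (hU _) (σ _))
      (mem_nvU_el w u hu hL hjL hE hPL (hU _) (σ _) (hW _) (hWU _) (hσ _) (hxW (pL.base ξ)))
  haveI := QMap.isIso_ι_of_eq_top _ htop
  refine ⟨htop, ?_⟩
  let φ := (RelProj.domQ u pL chartL).ι ≫ pL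
  set r' := inv φ ≫ r with hr'def
  have hr' : (RelProj.domQ u pL chartL).ι ≫ pL ≫ r' = r := by
    rw [← Category.assoc, IsIso.hom_inv_id_assoc]
  have hr'p : r' ≫ p = q := by
    rw [hr'def, Category.assoc, QMap.comp_base u hP hPL hr, IsIso.inv_comp_eq, Category.assoc]
  obtain ⟨O1, lam, hO1⟩ := PBundle.exists_twist hP 1
  obtain ⟨φT, hφT⟩ := PBundle.exists_taut hE hP hEq hO1
  have hsol : PBundle.Sol φT r' hr'p w := by
    refine PBundle.sol_of_crit hEq hE hO1 hφT hr'p fun x => ?_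
    have hdom : ∀ (U : Y.Opens) (hU : IsAffineOpen U) (e : Γ(E, U)),
        PBundle.dom chart jE U hU e = (QMap.aEmb p chart U hU Nat.one_pos (PBundle.el jE e)
          (PBundle.el_mem hE hU e)).opensRange := fun U hU e => by
      show RelProj.emb p chart U hU ''ᵁ _ = (Proj.awayι (𝒜.deg U hU) _ _ _ ≫ RelProj.emb p chart U hU).opensRange
      rw [Scheme.Hom.opensRange_comp, Proj.opensRange_awayι]
    have hWnv : W x ≤ nvU (j := jL) u 1 (PBundle.el jE (σ x)) := fun y hy =>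
      mem_nvU_el w u hu hL hjL hE hPL (hU x) (σ x) (hW x) (hWU x) (hσ x) hy
    have hN : nvU (j := jL) u 1 (PBundle.el jE (σ x)) ≤ r' ⁻¹ᵁ PBundle.dom chart jE (U x) (hU x) (σ x) :=
      fun y hy => by
        show r'.base y ∈ PBundle.dom chart jE (U x) (hU x) (σ x)
        rw [hdom]
        exact (mem_chart_iff u hL hjL hP hPL hr hr' htop (hU x) Nat.one_pos (PBundle.el_mem hE (hU x) (σ x)) y).mpr hy
    refine ⟨U x, hU x, σ x, W x, hWnv.trans hN, hWU x, hxW x, hσ x, fun e => ?_⟩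
    show _ • rs L (hWU x) (show Γ(L, q ⁻¹ᵁ U x) from w.app (U x) (σ x)) = rs L (hWU x) (show Γ(L, q ⁻¹ᵁ U x) from w.app (U x) e)
    have hspec := app_chart u hL hjL hP hPL hr hr' htop (hU x) Nat.one_pos (PBundle.el_mem hE (hU x) (σ x)) 1
      (PBundle.el jE e) (by simpa using PBundle.el_mem hE (hU x) e) _ (hdom (U x) (hU x) (σ x))
      (PBundle.fn chart (hU x) (σ x) (PBundle.frac hE (hU x) (σ x) e)) (by
        set f := PBundle.el jE (σ x)
        set emb := RelProj.emb p chart (U x) (hU x)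
        let B := Proj.basicOpen (𝒜.deg (U x) (hU x)) f
        have hB : ⊤ ≤ Proj.awayι (𝒜.deg (U x) (hU x)) f (PBundle.el_mem hE (hU x) (σ x)) Nat.one_pos ⁻¹ᵁ B :=
          fun y _ => (Proj.opensRange_awayι _ f _ Nat.one_pos).le ⟨y, rfl⟩
        have hBD : B ≤ emb ⁻¹ᵁ (emb ''ᵁ B) := (emb.preimage_image_eq B).ge
        show ((Proj.awayι (𝒜.deg (U x) (hU x)) f _ Nat.one_pos ≫ emb).appLE (emb ''ᵁ B) ⊤ _).hom _ = _
        rw [← Scheme.Hom.appLE_comp_appLE _ emb (emb ''ᵁ B) B ⊤ hBD hB, CommRingCat.comp_apply]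
        have h5 : (emb.appLE (emb ''ᵁ B) B hBD).hom (PBundle.fn chart (hU x) (σ x) (PBundle.frac hE (hU x) (σ x) e)) =
            Proj.awayToSection (𝒜.deg (U x) (hU x)) f (PBundle.frac hE (hU x) (σ x) e) := by
          show ((emb.appIso B).inv ≫ emb.appLE (emb ''ᵁ B) B _) _ = _
          rw [← emb.appIso_hom', Iso.inv_hom_id]
          rfl
        rw [h5]
        exact PBundle.awayι_appLE hE (hU x) (σ x) _) hN
    have r3 := congrArg (res 𝒮L hWnv) hspec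
    rw [pow_one, map_mul, au_res, au_res, au_el w u hu, au_el w u hu] at r3
    obtain ⟨c, hc⟩ := (hσ x).exists_coeff le_rfl (rs L (hWU x) (show Γ(L, q ⁻¹ᵁ U x) from w.app (U x) e))
    rw [rs_self] at hc
    have hcs : SymInv.gen jL (c • rs L (hWU x) (show Γ(L, q ⁻¹ᵁ U x) from w.app (U x) (σ x))) =
        (𝒮L.str.app (op (W x))).hom c * SymInv.gen jL (rs L (hWU x) (show Γ(L, q ⁻¹ᵁ U x) from w.app (U x) (σ x))) :=
      Scheme.Modules.Hom.app_smul jL c _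
    rw [← hc, hcs] at r3
    rw [← hc]
    refine congrArg (· • rs L (hWU x) (show Γ(L, q ⁻¹ᵁ U x) from w.app (U x) (σ x))) ?_
    refine mon_inj (n := 1) hjL (hW x) (hσ x) ?_
    rw [mon, mon, pow_one, ← r3]
    refine congrArg (· * _) ?_
    refine Eq.trans ?_ (ConcreteCategory.congr_hom (𝒮L.str.naturality (homOfLE hWnv).op) _)
    refine congrArg (𝒮L.str.app (op (W x))).hom ?_
    exact (ConcreteCategory.congr_hom (Scheme.Hom.appLE_map r' hN (homOfLE hWnv).op) _).symm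
  exact ⟨r', hr'p, hr', O1, lam, φT, hO1, hφT, hsol⟩

end Groth.L16.LPsiRel

namespace Groth.L16.LPsiRel

variable {Y X P PL : Scheme.{u}} {q : X ⟶ Y} {L : X.Modules} {𝒮L : RelProj.QCGrAlg X}
  {jL : L ⟶ 𝒮L.toModule} {𝒜 : RelProj.QCGrAlg Y}
  {jE : (Scheme.Modules.pushforward q).obj L ⟶ 𝒜.toModule} (u : RelProj.QGrHom q 𝒜 𝒮L)
  (hu : ∀ (U : Y.Opens) (x : Γ((Scheme.Modules.pushforward q).obj L, U)),
    (u.app U).hom ((jE.app U) x) = (jL.app (q ⁻¹ᵁ U)) x)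
  [Coh.IsQCoh L] (hL : PicF.IsInvertible L) (hjL : RelProj.IsGrSymAlg L 𝒮L jL)
  (hE : RelProj.IsGrSymAlg ((Scheme.Modules.pushforward q).obj L) 𝒜 jE)
  (hEq : Coh.IsQCoh ((Scheme.Modules.pushforward q).obj L))
  {pL : PL ⟶ X} {chartL : ∀ (U : X.Opens) (hU : IsAffineOpen U), (((pL ⁻¹ᵁ U : PL.Opens) : Scheme.{u}) ≅ Proj (𝒮L.deg U hU))}
  (hPL : RelProj.IsRelProj 𝒮L pL chartL)

include hu hL hjL hE hPL hEq in
theorem domQ_top_and_isImmersion {p : P ⟶ Y}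
    {chart : ∀ (U : Y.Opens) (hU : IsAffineOpen U), (((p ⁻¹ᵁ U : P.Opens) : Scheme.{u}) ≅ Proj (𝒜.deg U hU))}
    (hP : RelProj.IsRelProj 𝒜 p chart) {r : ((RelProj.domQ u pL chartL : PL.Opens) : Scheme.{u}) ⟶ P}
    (hr : RelProj.IsProjQMapOn u p chart pL chartL (RelProj.domQ u pL chartL) r)
    (h : RelProj.IsRelVeryAmple q L) : RelProj.domQ u pL chartL = ⊤ ∧ IsImmersion r := by
  haveI := SymInv.isIso_relProj hjL hL hPL
  obtain ⟨E₀, 𝒮₀, j₀, P₀, p₀, chart₀, O1₀, lam₀, φ₀, i, hi, s, hE₀, hj₀, -, hO1₀, hφ₀, -, -, hs₀⟩ :=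
    PBundle.exists_data h
  obtain ⟨htop, r', hr'p, hr', O1, lam, φ, hO1, hφ, hsol⟩ :=
    exists_sol (𝟙 _) u hu hL hjL hE hEq hPL hP hr fun x => by
      obtain ⟨_, ⟨U, hU, rfl⟩, hxU, -⟩ :=
        Y.isBasis_affineOpens.exists_subset_of_mem_open (Set.mem_univ (q.base x)) isOpen_univ
      obtain ⟨e₀, he₀⟩ :=
        PBundle.exists_mem_dom (chart := chart₀) hj₀ hU hE₀ (z := i x) (PBundle.le_base hi U hxU)
      have hf := hs₀.isFrame hj₀ hO1₀ hφ₀ hU e₀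
      obtain ⟨W, hW, hxW, hWle⟩ := exists_isAffineOpen_mem_and_subset (x := x)
        (U := i ⁻¹ᵁ PBundle.dom chart₀ j₀ U hU e₀) he₀
      refine ⟨U, hU, (PBundle.adjSec s).app U e₀, W, hW,
        hWle.trans ((i.preimage_mono (PBundle.dom_le chart₀ j₀ U hU e₀)).trans (PBundle.base_le hi U)), hxW, ?_⟩
      have := hf.mono hWle
      rwa [rs_rs] at this
  refine ⟨htop, ?_⟩
  haveI := QMap.isIso_ι_of_eq_top _ htop
  haveI := PBundle.isImmersion_of_pushforward h hEq hE hO1 hφ hsol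
  rw [← hr']
  infer_instance

end Groth.L16.LPsiRel
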